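import Groth.Agent.DescTop.AugInj
import Groth.Agent.SiteBase.Horseshoe
import Groth.Agent.SiteBase.DerivedKernel
import Mathlib.Algebra.Homology.HomologySequence
import Mathlib.Algebra.Homology.HomologicalComplexAbelian

/-!
# Sheaves acyclic for the direct image of an augmentation
-/

set_option autoImplicit false
set_option backward.isDefEq.respectTransparency false
set_option backward.isDefEq.respectTransparency.types false
set_option linter.style.haveILetI false

universe v₁ v₂ u₁ u₂ u

open CategoryTheory CategoryTheory.Limits Opposite TopologicalSpace Simplicial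
open Groth.Agent.FibSiteLib Groth.Agent.DescSS

noncomputable section

namespace Groth.Agent.DescTop

section general

variable {A : Type u₁} [Category.{v₁} A] [Abelian A] [EnoughInjectives A] {B : Type u₂} [Category.{v₂} B]
  [Abelian B] (P : A ⥤ B) [P.Additive] [PreservesFiniteLimits P]

/-- A left exact functor preserves short exact sequences with acyclic kernel. -/
lemma map_shortExact_of_acyclic {T : ShortComplex A} (hT : T.ShortExact)
    (h : IsZero ((P.rightDerived 1).obj T.X₁)) : (T.map P).ShortExact := by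
  let Δ := SESResLib.derivedLES P
  have h0 : Epi ((P.rightDerived 0).map T.g) := (Δ.exact₃ T hT 0 1 rfl).epi_f (h.eq_of_tgt _ _)
  haveI : Epi (P.map T.g) := by
    rw [show P.map T.g = P.rightDerivedZeroIsoSelf.inv.app T.X₂ ≫ (P.rightDerived 0).map T.g ≫
        P.rightDerivedZeroIsoSelf.hom.app T.X₃ by
      rw [P.rightDerivedZeroIsoSelf.hom.naturality, Iso.inv_hom_id_app_assoc]]
    infer_instance
  haveI := hT.mono_f
  haveI : Mono (T.map P).f := inferInstanceAs (Mono (P.map T.f))
  haveI : Epi (T.map P).g := inferInstanceAs (Epi (P.map T.g))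
  exact { exact := ShortComplex.exact_of_f_is_kernel _ (KernelFork.mapIsLimit _ hT.fIsKernel P) }

/-- The derived objects of a quotient of an acyclic object. -/
lemma isZero_X₃ {T : ShortComplex A} (hT : T.ShortExact) (q : ℕ) (h₁ : IsZero ((P.rightDerived (q + 2)).obj T.X₁))
    (h₂ : IsZero ((P.rightDerived (q + 1)).obj T.X₂)) : IsZero ((P.rightDerived (q + 1)).obj T.X₃) :=
  ((SESResLib.derivedLES P).exact₃ T hT (q + 1) (q + 2) rfl).isZero_X₂ (h₂.eq_of_src _ _) (h₁.eq_of_tgt _ _)

end general

variable (W : (WithInitial SimplexCategory)ᵒᵖ ⥤ TopCat.{u})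

instance (k : SimplexCategoryᵒᵖ) : PreservesFiniteLimits (FamLevel.r (N W) k) :=
  SplitDescent.lex_of_adj (FamLevel.adj (N W) k)

instance (k : SimplexCategoryᵒᵖ) : PreservesFiniteColimits (FamLevel.r (N W) k) :=
  SplitDescent.rex_of_adj ((Pseudofunctor.CoGrothendieck.ι (TopFam.topFam (N W)) k).sheafAdjunctionCocontinuous
    AddCommGrpCat.{u} (TopFam.top (N W) k) (FamLevel.J (N W)))

instance (k : SimplexCategoryᵒᵖ) : (FamLevel.r (N W) k).Additive where

lemma injective_level (k : SimplexCategoryᵒᵖ) (M : Sh W) [hM : Injective M] :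
    Injective ((FamLevel.r (N W) k).obj M) :=
  haveI := FamLevel.lex_L (N W) k
  (FamLevel.adj (N W) k).map_injective M hM

instance {X Y : TopCat.{u}} (f : X ⟶ Y) : PreservesFiniteLimits (CohTop.push f) :=
  haveI : (CohTop.push f).IsRightAdjoint :=
    (TopCat.Sheaf.pullbackPushforwardAdjunction AddCommGrpCat.{u} f).isRightAdjoint
  inferInstance

instance : PreservesFiniteLimits (θs W) := SplitDescent.lex_of_adj (θadj W)

instance : (θs W).Additive :=
  FibDesc.additive_push (FibDesc.topAug W) (FibDesc.topAugTop W) AddCommGrpCat.{u}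

/-- The levels are acyclic and the complex of their direct images is exact in positive degrees. -/
structure Good (M : Sh W) : Prop where
  level : ∀ (k : SimplexCategory) (q : ℕ),
    IsZero (((CohTop.push (am W k)).rightDerived (q + 1)).obj ((FamLevel.r (N W) (op k)).obj M))
  cx : ∀ n : ℕ, ((Cx W).obj M).ExactAt (n + 1)

lemma good_of_injective (M : Sh W) [Injective M] : Good W M where
  level k q :=
    haveI := injective_level W (op k) M
    (CohTop.push (am W k)).isZero_rightDerived_obj_injective_succ q _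
  cx n := exactAt_Cx W M n

variable {W} {T : ShortComplex (Sh W)}

lemma level_shortExact (hT : T.ShortExact) (k : SimplexCategoryᵒᵖ) : (T.map (FamLevel.r (N W) k)).ShortExact :=
  hT.map_of_exact _

instance (k : SimplexCategory) : (Ck W k).PreservesZeroMorphisms := inferInstance

instance : (Cx W).PreservesZeroMorphisms where
  map_zero M M' := by
    refine HomologicalComplex.hom_ext _ _ fun n => ?_
    exact (Ck W ⦋n⦌).map_zero M M'

lemma Cx_shortExact (hT : T.ShortExact) (h : Good W T.X₁) : (T.map (Cx W)).ShortExact := by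
  refine HomologicalComplex.shortExact_of_degreewise_shortExact _ fun n => ?_
  exact map_shortExact_of_acyclic (CohTop.push (am W ⦋n⦌)) (level_shortExact hT (op ⦋n⦌)) (h.level ⦋n⦌ 0)

lemma Good.right (hT : T.ShortExact) (h₁ : Good W T.X₁) (h₂ : Good W T.X₂) : Good W T.X₃ where
  level k q := isZero_X₃ (CohTop.push (am W k)) (level_shortExact hT (op k)) q (h₁.level k (q + 1)) (h₂.level k q)
  cx n := by
    rw [HomologicalComplex.exactAt_iff_isZero_homology]
    exact ((Cx_shortExact hT h₁).homology_exact₃ (n + 1) (n + 2) (by simp)).isZero_X₂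
      (((h₂.cx n).isZero_homology).eq_of_src _ _) (((h₁.cx (n + 1)).isZero_homology).eq_of_tgt _ _)

lemma d_zero_one (M : Sh W) : ((Cx W).obj M).d 0 1 = d₀ W M := by
  dsimp [Cx, AlgebraicTopology.alternatingCofaceMapComplex, AlgebraicTopology.AlternatingCofaceMapComplex.obj]
  refine (CochainComplex.of_d _ _ 0).trans ((Fin.sum_univ_two _).trans ?_)
  simp [CategoryTheory.CosimplicialObject.δ, cosimp, d₀, sub_eq_add_neg]

variable (W)

/-- The direct image in degree zero homology. -/
def toH0 (M : Sh W) : (θs W).obj M ⟶ ((Cx W).obj M).homology 0 :=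
  ((Cx W).obj M).liftCycles ((ev W ⦋0⦌).app M) 1 (by simp)
      ((congrArg (fun q => (ev W ⦋0⦌).app M ≫ q) (d_zero_one M)).trans (ev_d₀ W M)) ≫
    ((Cx W).obj M).homologyπ 0

instance isIso_toH0 (M : Sh W) : IsIso (toH0 W M) := by
  have h : (ev W ⦋0⦌).app M ≫ ((Cx W).obj M).d 0 1 = 0 :=
    (congrArg (fun q => (ev W ⦋0⦌).app M ≫ q) (d_zero_one M)).trans (ev_d₀ W M)
  haveI : IsIso (((Cx W).obj M).liftCycles ((ev W ⦋0⦌).app M) 1 (by simp) h) := by
    refine (CochainComplex.isIso_liftCycles_iff _ _ h).2 ⟨?_, (exact_ev W M).2⟩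
    refine ShortComplex.exact_of_iso ?_ (exact_ev W M).1
    exact ShortComplex.isoMk (Iso.refl _) (Iso.refl _) (Iso.refl _) (by simp) (by
      simp [d_zero_one])
  dsimp only [toH0]
  infer_instance

lemma toH0_naturality {M M' : Sh W} (φ : M ⟶ M') :
    (θs W).map φ ≫ toH0 W M' = toH0 W M ≫ HomologicalComplex.homologyMap ((Cx W).map φ) 0 := by
  simp only [toH0, Category.assoc, HomologicalComplex.homologyπ_naturality]
  rw [← Category.assoc, ← Category.assoc, HomologicalComplex.liftCycles_comp_cyclesMap]
  congr 1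
  rw [← cancel_mono (((Cx W).obj M').iCycles 0), Category.assoc, HomologicalComplex.liftCycles_i,
    HomologicalComplex.liftCycles_i]
  exact (ev W ⦋0⦌).naturality φ

/-- Good sheaves are acyclic for the direct image of the augmentation. -/
theorem isZero_rightDerived_of_good : ∀ (q : ℕ) (M : Sh W), Good W M →
    IsZero (((θs W).rightDerived (q + 1)).obj M) := by
  intro q
  induction q with
  | zero =>
    intro M hM
    obtain ⟨T, hT, hI, rfl⟩ : ∃ T : ShortComplex (Sh W), T.ShortExact ∧ Injective T.X₂ ∧ T.X₁ = M :=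
      ⟨SiteBase.effSES M, SiteBase.effSES_shortExact M, SiteBase.injective_effSES M, rfl⟩
    have hS := Cx_shortExact hT hM
    haveI : Epi (HomologicalComplex.homologyMap (T.map (Cx W)).g 0) :=
      (hS.homology_exact₃ 0 1 (by simp)).epi_f (((hM.cx 0).isZero_homology).eq_of_tgt _ _)
    haveI : Epi ((θs W).map T.g) := by
      have e : (θs W).map T.g =
          toH0 W T.X₂ ≫ HomologicalComplex.homologyMap (T.map (Cx W)).g 0 ≫ inv (toH0 W T.X₃) := by
        rw [← Category.assoc, IsIso.eq_comp_inv]
        exact toH0_naturality W T.g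
      rw [e]
      infer_instance
    let Δ := SESResLib.derivedLES (θs W)
    haveI : Epi (((θs W).rightDerived 0).map T.g) := by
      rw [show ((θs W).rightDerived 0).map T.g = (θs W).rightDerivedZeroIsoSelf.hom.app T.X₂ ≫ (θs W).map T.g ≫
          (θs W).rightDerivedZeroIsoSelf.inv.app T.X₃ by
        rw [← (θs W).rightDerivedZeroIsoSelf.hom.naturality_assoc, Iso.hom_inv_id_app, Category.comp_id]]
      infer_instance
    exact (Δ.exact₁ T hT 0 1 rfl).isZero_X₂ (by
      rw [← cancel_epi (((θs W).rightDerived 0).map T.g), comp_zero]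
      exact Δ.comp_δ T hT 0 1 rfl) (((θs W).isZero_rightDerived_obj_injective_succ 0 T.X₂).eq_of_tgt _ _)
  | succ q ih =>
    intro M hM
    obtain ⟨T, hT, hI, rfl⟩ : ∃ T : ShortComplex (Sh W), T.ShortExact ∧ Injective T.X₂ ∧ T.X₁ = M :=
      ⟨SiteBase.effSES M, SiteBase.effSES_shortExact M, SiteBase.injective_effSES M, rfl⟩
    exact ((SESResLib.derivedLES (θs W)).exact₁ T hT (q + 1) (q + 2) rfl).isZero_X₂
      ((ih _ (Good.right hT hM (good_of_injective W T.X₂))).eq_of_src _ _)
      (((θs W).isZero_rightDerived_obj_injective_succ (q + 1) T.X₂).eq_of_tgt _ _)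

end Groth.Agent.DescTop
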