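import Groth.Agent.DescTop.AugLevel
import Mathlib.CategoryTheory.Adjunction.Mates

/-!
# Base change for augmented simplicial spaces with proper levels
-/

set_option autoImplicit false
set_option backward.isDefEq.respectTransparency false
set_option backward.isDefEq.respectTransparency.types false
set_option linter.style.haveILetI false

universe u

open CategoryTheory CategoryTheory.Limits Opposite TopologicalSpace Simplicial
open Pseudofunctor.CoGrothendieck
open Groth.Agent.FibSiteLib Groth.Agent.FibSiteLib.TopFam Groth.Agent.DescSS Groth.Agent.FibBi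

noncomputable section

namespace Groth.Agent.DescTop

variable {W W' : (WithInitial SimplexCategory)ᵒᵖ ⥤ TopCat.{u}} (α : W' ⟶ W)

/-- The map of bases. -/
abbrev bot : base W' ⟶ base W := α.app (FibDesc.bot SimplexCategory)

/-- The map of simplicial spaces. -/
abbrev αN : N W' ⟶ N W := Functor.whiskerLeft (FibDesc.toAug SimplexCategory) α

/-- The inverse image along the map of simplicial spaces. -/
abbrev pbα : Sh W ⥤ Sh W' := FamBC.pb (αN α)

lemma am_bot (k : SimplexCategory) : am W' k ≫ bot α = (αN α).app (op k) ≫ am W k :=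
  α.naturality _

lemma am_bot_apply (k : SimplexCategory) (x : (N W').obj (op k)) :
    am W k ((αN α).app (op k) x) = bot α (am W' k x) :=
  (ConcreteCategory.congr_hom (am_bot α k) x).symm

/-- The inverse image of an open set in a level maps to the inverse image. -/
def obInc (k : SimplexCategory) (V : Opens (base W)) :
    ob W' k ((Opens.map (bot α)).obj V) ⟶ (TopFam.K (αN α)).obj (ob W k V) :=
  TopFam.mk (N W') (X := ob W' k ((Opens.map (bot α)).obj V)) (W := (TopFam.K (αN α)).obj (ob W k V)) (𝟙 (op k))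
    (fun x hx => by
      show am W k ((αN α).app (op k) ((N W').map (𝟙 (op k)) x)) ∈ V
      rw [(N W').map_id, am_bot_apply]
      exact hx)

/-- The unit of the inverse image. -/
abbrev unitα (M : Sh W) :=
  ((TopFam.K (αN α)).sheafAdjunctionContinuous AddCommGrpCat.{u} (FamLevel.J (N W)) (FamLevel.J (N W'))).unit.app M

/-- The map of the direct images of the levels. -/
def psi (k : SimplexCategory) (M : Sh W) :
    (Ck W k).obj M ⟶ (CohTop.push (bot α)).obj ((Ck W' k).obj ((pbα α).obj M)) :=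
  ⟨{ app := fun V => (unitα α M).hom.app (op (ob W k V.unop)) ≫ ((pbα α).obj M).obj.map (obInc α k V.unop).op
     naturality := fun U V i => by
       show M.obj.map (obMap W (𝟙 k) i.unop.le).op ≫ (unitα α M).hom.app _ ≫ ((pbα α).obj M).obj.map _ =
         ((unitα α M).hom.app _ ≫ ((pbα α).obj M).obj.map _) ≫
           ((pbα α).obj M).obj.map (obMap W' (𝟙 k) ((Opens.map (bot α)).map i.unop).le).op
       refine (Category.assoc _ _ _).symm.trans ((congrArg (fun q => q ≫ _)
         ((unitα α M).hom.naturality (obMap W (𝟙 k) i.unop.le).op)).trans ?_)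
       refine (Category.assoc _ _ _).trans (Eq.trans ?_ (Category.assoc _ _ _).symm)
       congr 1
       show ((pbα α).obj M).obj.map _ ≫ ((pbα α).obj M).obj.map _ = _
       rw [← Functor.map_comp, ← Functor.map_comp]
       exact congrArg _ (Quiver.Hom.unop_inj (TopFam.hom_ext (N W') _ _ rfl)) }⟩

lemma psi_natural (k : SimplexCategory) {M M' : Sh W} (φ : M ⟶ M') :
    (Ck W k).map φ ≫ psi α k M' = psi α k M ≫ (CohTop.push (bot α)).map ((Ck W' k).map ((pbα α).map φ)) := by
  apply CategoryTheory.Sheaf.hom_ext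
  refine NatTrans.ext (funext fun V => ?_)
  have n := NatTrans.congr_app (congrArg (fun q => q.hom)
    (((TopFam.K (αN α)).sheafAdjunctionContinuous AddCommGrpCat.{u} (FamLevel.J (N W)) (FamLevel.J (N W'))).unit.naturality φ))
    (op (ob W k V.unop))
  show φ.hom.app _ ≫ (unitα α M').hom.app _ ≫ ((pbα α).obj M').obj.map _ =
    ((unitα α M).hom.app _ ≫ ((pbα α).obj M).obj.map _) ≫ ((pbα α).map φ).hom.app _
  refine (Category.assoc _ _ _).symm.trans ((congrArg (fun q => q ≫ _) n).trans ?_)
  refine (Category.assoc _ _ _).trans (Eq.trans ?_ (Category.assoc _ _ _).symm)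
  exact congrArg (fun q => _ ≫ q) (((pbα α).map φ).hom.naturality (obInc α k V.unop).op).symm

lemma psi_CMap {k l : SimplexCategory} (g : k ⟶ l) (M : Sh W) :
    (CMap W g).app M ≫ psi α l M = psi α k M ≫ (CohTop.push (bot α)).map ((CMap W' g).app ((pbα α).obj M)) := by
  apply CategoryTheory.Sheaf.hom_ext
  refine NatTrans.ext (funext fun V => ?_)
  show M.obj.map (obMap W g le_rfl).op ≫ (unitα α M).hom.app _ ≫ ((pbα α).obj M).obj.map _ =
    ((unitα α M).hom.app _ ≫ ((pbα α).obj M).obj.map _) ≫ ((pbα α).obj M).obj.map (obMap W' g le_rfl).op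
  refine (Category.assoc _ _ _).symm.trans ((congrArg (fun q => q ≫ _)
    ((unitα α M).hom.naturality (obMap W g le_rfl).op)).trans ?_)
  refine (Category.assoc _ _ _).trans (Eq.trans ?_ (Category.assoc _ _ _).symm)
  congr 1
  show ((pbα α).obj M).obj.map _ ≫ ((pbα α).obj M).obj.map _ = _
  rw [← Functor.map_comp, ← Functor.map_comp]
  exact congrArg _ (Quiver.Hom.unop_inj (TopFam.hom_ext (N W') _ _
    ((Category.id_comp g.op).trans (Category.comp_id g.op).symm)))

/-- The adjunction of the map of bases. -/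
abbrev adjBot : CohTop.pull (bot α) ⊣ CohTop.push (bot α) :=
  TopCat.Sheaf.pullbackPushforwardAdjunction AddCommGrpCat.{u} (bot α)

/-- The base change map of a level. -/
def Psi (k : SimplexCategory) : Ck W k ⋙ CohTop.pull (bot α) ⟶ pbα α ⋙ Ck W' k where
  app M := ((adjBot α).homEquiv _ _).symm (psi α k M)
  naturality M M' φ := by
    refine ((adjBot α).homEquiv_naturality_left_symm _ _).symm.trans
      (Eq.trans ?_ ((adjBot α).homEquiv_naturality_right_symm _ _))
    exact congrArg _ (psi_natural α k φ)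

lemma Psi_CMap {k l : SimplexCategory} (g : k ⟶ l) (M : Sh W) :
    (CohTop.pull (bot α)).map ((CMap W g).app M) ≫ (Psi α l).app M =
      (Psi α k).app M ≫ (CMap W' g).app ((pbα α).obj M) := by
  refine ((adjBot α).homEquiv_naturality_left_symm _ _).symm.trans
    (Eq.trans ?_ ((adjBot α).homEquiv_naturality_right_symm _ _))
  exact congrArg _ (psi_CMap α g M)

lemma unit_Psi (k : SimplexCategory) (M : Sh W) :
    (adjBot α).unit.app ((Ck W k).obj M) ≫ (CohTop.push (bot α)).map ((Psi α k).app M) = psi α k M :=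
  ((adjBot α).homEquiv_unit _ _ _).symm.trans (((adjBot α).homEquiv _ _).apply_symm_apply _)

/-- The geometric hypotheses: all levels are proper base changes. -/
def IsBC : Prop := ∀ k : SimplexCategory, SoftTop.BCSquare (am W k) (bot α) (am W' k) ((αN α).app (op k))

variable {α}

lemma isIso_Psi (h : IsBC α) (k : SimplexCategory) (M : Sh W) : IsIso ((Psi α k).app M) := by
  refine (h k).isIso_of_data (pbData (αN α) (op k) M) (psi α k M).hom (fun V s => ?_) _
    (congrArg (fun q => q.hom) (unit_Psi α k M))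
  show ((pbα α).obj M).obj.map (obInc α k V).op ((unitα α M).hom.app (op (ob W k V)) s) =
    ((pbα α).obj M).obj.map _ (((pbα α).obj M).obj.map _ ((unitα α M).hom.app _ s))
  rw [← ConcreteCategory.comp_apply (((pbα α).obj M).obj.map _) (((pbα α).obj M).obj.map _), ← Functor.map_comp]
  exact congrArg (fun q => ((pbα α).obj M).obj.map q ((unitα α M).hom.app (op (ob W k V)) s))
    (Quiver.Hom.unop_inj (TopFam.hom_ext (N W') _ _ (by simp [obInc, TopFam.mk, wFam, TopFam.ιK]; rfl)))

instance : PreservesFiniteLimits (CohTop.pull (bot α)) := SiteBase.preservesFiniteLimits_pull _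

instance : PreservesFiniteColimits (CohTop.pull (bot α)) :=
  SplitDescent.rex_of_adj (adjBot α)

instance : (CohTop.pull (bot α)).Additive := Functor.additive_of_preserves_binary_products _

variable (α)

lemma comm₀ (M : Sh W) :
    ((CohTop.pull (bot α)).map ((ev W ⦋0⦌).app M) ≫ (Psi α ⦋0⦌).app M) ≫ d₀ W' ((pbα α).obj M) = 0 := by
  rw [Category.assoc, d₀, Preadditive.comp_sub, ← Psi_CMap, ← Psi_CMap, ← Preadditive.sub_comp, ← Functor.map_sub,
    ← Category.assoc, ← Functor.map_comp]
  show (CohTop.pull (bot α)).map ((ev W ⦋0⦌).app M ≫ d₀ W M) ≫ _ = 0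
  rw [ev_d₀, Functor.map_zero, zero_comp]

/-- The base change map of the direct images of the augmentations. -/
def bc : θs W ⋙ CohTop.pull (bot α) ⟶ pbα α ⋙ θs W' where
  app M :=
    haveI : Mono (ShortComplex.mk _ _ (ev_d₀ W' ((pbα α).obj M))).f := (exact_ev W' _).2
    (exact_ev W' ((pbα α).obj M)).1.lift _ (comm₀ α M)
  naturality M M' φ := by
    haveI : Mono (ShortComplex.mk _ _ (ev_d₀ W' ((pbα α).obj M'))).f := (exact_ev W' _).2
    haveI : Mono (ShortComplex.mk _ _ (ev_d₀ W' ((pbα α).obj M))).f := (exact_ev W' _).2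
    haveI : Mono ((ev W' ⦋0⦌).app ((pbα α).obj M')) := (exact_ev W' _).2
    rw [← cancel_mono ((ev W' ⦋0⦌).app ((pbα α).obj M')), Category.assoc, Category.assoc]
    rw [(exact_ev W' ((pbα α).obj M')).1.lift_f]
    show _ = _ ≫ (θs W').map ((pbα α).map φ) ≫ _
    rw [(ev W' ⦋0⦌).naturality ((pbα α).map φ)]
    refine Eq.trans ?_ (Category.assoc _ _ _)
    rw [(exact_ev W' ((pbα α).obj M)).1.lift_f, Category.assoc]
    refine Eq.trans ?_ (congrArg (fun q => _ ≫ q) ((Psi α ⦋0⦌).naturality φ))
    show (CohTop.pull (bot α)).map ((θs W).map φ) ≫ _ ≫ _ = _ ≫ (CohTop.pull (bot α)).map ((Ck W ⦋0⦌).map φ) ≫ _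
    rw [← Category.assoc, ← Category.assoc, ← Functor.map_comp, ← Functor.map_comp, (ev W ⦋0⦌).naturality φ]

lemma bc_ev₀ (M : Sh W) :
    (bc α).app M ≫ (ev W' ⦋0⦌).app ((pbα α).obj M) =
      (CohTop.pull (bot α)).map ((ev W ⦋0⦌).app M) ≫ (Psi α ⦋0⦌).app M :=
  haveI : Mono (ShortComplex.mk _ _ (ev_d₀ W' ((pbα α).obj M))).f := (exact_ev W' _).2
  (exact_ev W' ((pbα α).obj M)).1.lift_f _ (comm₀ α M)

lemma bc_ev (k : SimplexCategory) (M : Sh W) :
    (bc α).app M ≫ (ev W' k).app ((pbα α).obj M) =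
      (CohTop.pull (bot α)).map ((ev W k).app M) ≫ (Psi α k).app M := by
  let v : ⦋0⦌ ⟶ k := SimplexCategory.const _ k 0
  rw [← ev_CMap W' v, ← Category.assoc, bc_ev₀, Category.assoc, ← Psi_CMap, ← Category.assoc, ← Functor.map_comp,
    ev_CMap W v]

variable {α}

lemma isIso_bc (h : IsBC α) (M : Sh W) : IsIso ((bc α).app M) := by
  haveI := isIso_Psi h ⦋0⦌ M
  haveI := isIso_Psi h ⦋1⦌ M
  let S := ShortComplex.mk _ _ (ev_d₀ W M)
  haveI : Mono S.f := (exact_ev W M).2
  haveI : Mono (S.map (CohTop.pull (bot α))).f := inferInstanceAs (Mono ((CohTop.pull (bot α)).map S.f))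
  have hS : (S.map (CohTop.pull (bot α))).Exact := (exact_ev W M).1.map (CohTop.pull (bot α))
  have hd : (ev W' ⦋0⦌).app ((pbα α).obj M) ≫ inv ((Psi α ⦋0⦌).app M) ≫ (CohTop.pull (bot α)).map (d₀ W M) = 0 := by
    rw [← cancel_mono ((Psi α ⦋1⦌).app M), Category.assoc, Category.assoc, zero_comp, d₀, Functor.map_sub,
      Preadditive.sub_comp, Psi_CMap, Psi_CMap, ← Preadditive.comp_sub, IsIso.inv_hom_id_assoc]
    exact ev_d₀ W' _
  haveI : Mono ((ev W' ⦋0⦌).app ((pbα α).obj M)) := (exact_ev W' _).2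
  let r := hS.lift ((ev W' ⦋0⦌).app ((pbα α).obj M) ≫ inv ((Psi α ⦋0⦌).app M)) (by rw [Category.assoc]; exact hd)
  have hr : r ≫ (CohTop.pull (bot α)).map ((ev W ⦋0⦌).app M) =
      (ev W' ⦋0⦌).app ((pbα α).obj M) ≫ inv ((Psi α ⦋0⦌).app M) := hS.lift_f _ _
  refine ⟨r, ?_, ?_⟩
  · rw [← cancel_mono (S.map (CohTop.pull (bot α))).f, Category.assoc, Category.id_comp]
    show (bc α).app M ≫ r ≫ (CohTop.pull (bot α)).map ((ev W ⦋0⦌).app M) = (CohTop.pull (bot α)).map _
    rw [hr, ← Category.assoc, bc_ev₀, Category.assoc, IsIso.hom_inv_id, Category.comp_id]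
  · rw [← cancel_mono ((ev W' ⦋0⦌).app ((pbα α).obj M)), Category.assoc, Category.id_comp, bc_ev₀, ← Category.assoc, hr,
      Category.assoc, IsIso.inv_hom_id, Category.comp_id]

/-- The comparison of the inverse images. -/
def cc : CohTop.pull (bot α) ⋙ θ W' ⟶ θ W ⋙ pbα α :=
  ((mateEquiv (θadj W) (θadj W')).symm (TwoSquare.mk _ _ _ _ (bc α))).natTrans

lemma rel (X : CohTop.Ab (base W)) :
    (θadj W').unit.app ((CohTop.pull (bot α)).obj X) ≫ (θs W').map ((cc (α := α)).app X) =
      (CohTop.pull (bot α)).map ((θadj W).unit.app X) ≫ (bc α).app ((θ W).obj X) :=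
  (unit_mateEquiv_symm (θadj W) (θadj W') (TwoSquare.mk _ _ _ _ (bc α)) X).symm

lemma level_eq (p : ℕ) (X : CohTop.Ab (base W)) :
    ((adjBot α).unit.app X ≫ (CohTop.push (bot α)).map
        ((θadj W').unit.app ((CohTop.pull (bot α)).obj X) ≫ (ev W' ⦋p⦌).app ((θ W').obj ((CohTop.pull (bot α)).obj X)))) ≫
      (CohTop.push (bot α)).map ((Ck W' ⦋p⦌).map ((cc (α := α)).app X)) =
    ((θadj W).unit.app X ≫ (ev W ⦋p⦌).app ((θ W).obj X)) ≫ psi α ⦋p⦌ ((θ W).obj X) := by
  rw [Category.assoc, ← Functor.map_comp, Category.assoc, ← (ev W' ⦋p⦌).naturality, ← Category.assoc]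
  rw [show (θadj W').unit.app ((CohTop.pull (bot α)).obj X) ≫ (θs W').map ((cc (α := α)).app X) =
    (CohTop.pull (bot α)).map ((θadj W).unit.app X) ≫ (bc α).app ((θ W).obj X) from rel X]
  rw [Category.assoc]
  show _ ≫ (CohTop.push (bot α)).map (_ ≫ (bc α).app ((θ W).obj X) ≫ (ev W' ⦋p⦌).app ((pbα α).obj ((θ W).obj X))) = _
  rw [bc_ev, ← Category.assoc, ← Functor.map_comp, Functor.map_comp, ← Category.assoc]
  erw [(adjBot α).unit_naturality]
  simp only [Category.assoc, unit_Psi]

lemma isIso_cc (h : IsBC α) (X : CohTop.Ab (base W)) : IsIso ((cc (α := α)).app X) := by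
  let c := (cc (α := α)).app X
  let X' := (CohTop.pull (bot α)).obj X
  have hlev : ∀ m : SimplexCategoryᵒᵖ, IsIso ((FamLevel.r (N W') m).map c) := by
    intro m
    obtain ⟨k⟩ := m
    induction k using SimplexCategory.rec with
    | _ p =>
      let D₁ := (SoftTop.pullData (bot α) X).comp (augData W' p X')
      let D₂ := (augData W p X).comp (pbData (αN α) (op ⦋p⦌) ((θ W).obj X))
      let cN := ((FamLevel.r (N W') (op ⦋p⦌)).map c).hom
      haveI : ∀ x, IsIso ((TopCat.Presheaf.stalkFunctor AddCommGrpCat.{u} x).map cN) := fun x => by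
        let z₁ : base W := (am W' ⦋p⦌ ≫ bot α) x
        let z₂ : base W := ((αN α).app (op ⦋p⦌) ≫ am W ⦋p⦌) x
        have hz : z₂ = z₁ := am_bot_apply α ⦋p⦌ x
        have key : ∀ (V : Opens (base W)) (h₁ : z₁ ∈ V) (h₂ : z₂ ∈ V) (s : X.obj.obj (op V)),
            (TopCat.Presheaf.stalkFunctor AddCommGrpCat.{u} x).map cN
                (SoftTop.stalkMap (am W' ⦋p⦌ ≫ bot α) D₁.η x (TopCat.Presheaf.germ X.obj V z₁ h₁ s)) =
              SoftTop.stalkMap ((αN α).app (op ⦋p⦌) ≫ am W ⦋p⦌) D₂.η x (TopCat.Presheaf.germ X.obj V z₂ h₂ s) := by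
          intro V h₁ h₂ s
          rw [SoftTop.germ_stalkMap, SoftTop.germ_stalkMap]
          erw [TopCat.Presheaf.stalkFunctor_map_germ_apply]
          have e := ConcreteCategory.congr_hom (NatTrans.congr_app (congrArg (fun q => q.hom) (level_eq (α := α) p X)) (op V)) s
          refine (congrArg _ e).trans ?_
          refine Eq.trans ?_ (TopCat.Presheaf.germ_res_apply ((FamLevel.r (N W') (op ⦋p⦌)).obj ((pbα α).obj ((θ W).obj X))).obj
            (homOfLE (show (Opens.map (am W' ⦋p⦌)).obj ((Opens.map (bot α)).obj V) ≤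
              (Opens.map ((αN α).app (op ⦋p⦌))).obj ((Opens.map (am W ⦋p⦌)).obj V) from fun y hy => by
                show am W ⦋p⦌ ((αN α).app (op ⦋p⦌) y) ∈ V
                rw [am_bot_apply]
                exact hy)) x h₁ _)
          congr 1
          show ((pbα α).obj ((θ W).obj X)).obj.map _ ((unitα α ((θ W).obj X)).hom.app _
              (((θadj W).unit.app X ≫ (ev W ⦋p⦌).app ((θ W).obj X)).hom.app (op V) s)) =
            ((pbα α).obj ((θ W).obj X)).obj.map _ (((pbα α).obj ((θ W).obj X)).obj.map _ ((unitα α ((θ W).obj X)).hom.app _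
              (((θadj W).unit.app X ≫ (ev W ⦋p⦌).app ((θ W).obj X)).hom.app (op V) s)))
          rw [← ConcreteCategory.comp_apply (((pbα α).obj ((θ W).obj X)).obj.map _) (((pbα α).obj ((θ W).obj X)).obj.map _),
            ← Functor.map_comp]
          exact congrArg (fun q => ((pbα α).obj ((θ W).obj X)).obj.map q ((unitα α ((θ W).obj X)).hom.app _
              (((θadj W).unit.app X ≫ (ev W ⦋p⦌).app ((θ W).obj X)).hom.app (op V) s)))
            (Quiver.Hom.unop_inj (TopFam.hom_ext (N W') _ _ (by simp [obInc, TopFam.mk, wFam, TopFam.ιK]; rfl)))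
        refine (ConcreteCategory.isIso_iff_bijective _).2 ⟨(injective_iff_map_eq_zero _).2 fun w hw => ?_, fun w => ?_⟩
        · obtain ⟨u', rfl⟩ := (D₁.bij x).2 w
          obtain ⟨V, hV, s, rfl⟩ := TopCat.Presheaf.exists_germ_eq X.obj u'
          have h₂ : z₂ ∈ V := hz ▸ hV
          have e0 : TopCat.Presheaf.germ X.obj V z₂ h₂ s = 0 :=
            (D₂.bij x).1 ((key V hV h₂ s).symm.trans (hw.trans (map_zero _).symm))
          obtain ⟨T, hT, a, b, e⟩ := TopCat.Presheaf.germ_eq X.obj z₂ h₂ h₂ s 0 (e0.trans (map_zero _).symm)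
          rw [show TopCat.Presheaf.germ X.obj V z₁ hV s = 0 by
            rw [← TopCat.Presheaf.germ_res_apply X.obj a z₁ (hz ▸ hT) s, e, map_zero, map_zero]]
          exact map_zero _
        · obtain ⟨u', rfl⟩ := (D₂.bij x).2 w
          obtain ⟨V, hV, s, rfl⟩ := TopCat.Presheaf.exists_germ_eq X.obj u'
          exact ⟨_, key V (hz ▸ hV) hV s⟩
      exact TopCat.Presheaf.isIso_of_stalkFunctor_map_iso ((FamLevel.r (N W') (op ⦋p⦌)).map c)
  haveI : ∀ Z : (∫ᶜ (topFam (N W')))ᵒᵖ, IsIso (c.hom.app Z) := fun Z => by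
    obtain ⟨⟨m, U⟩⟩ := Z
    haveI := hlev m
    exact inferInstanceAs (IsIso (((sheafToPresheaf _ AddCommGrpCat.{u}).map
      ((FamLevel.r (N W') m).map c)).app (op U)))
  haveI : IsIso c.hom := NatIso.isIso_of_isIso_app _
  haveI : IsIso ((sheafToPresheaf _ AddCommGrpCat.{u}).map c) := this
  exact isIso_of_reflects_iso c (sheafToPresheaf _ AddCommGrpCat.{u})

lemma good_pb (h : IsBC α) (I : Sh W) [Injective I] : Good W' ((pbα α).obj I) where
  level k q := by
    haveI := injective_level W (op k) I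
    haveI := SiteBase.isFlasque_of_injective ((FamLevel.r (N W) (op k)).obj I)
    exact (h k).isZero_rpush (pbData (αN α) (op k) I) q
  cx n := by
    haveI : ∀ k, IsIso ((Psi α k).app I) := fun k => isIso_Psi h k I
    let G := CohTop.pull (bot α)
    let e : (G.mapHomologicalComplex _).obj ((Cx W).obj I) ≅ (Cx W').obj ((pbα α).obj I) :=
      HomologicalComplex.Hom.isoOfComponents (fun n => asIso ((Psi α ⦋n⦌).app I)) (by
        rintro i _ (rfl : i + 1 = _)
        have hd : ∀ (V : (WithInitial SimplexCategory)ᵒᵖ ⥤ TopCat.{u}) (M : Sh V), ((Cx V).obj M).d i (i + 1) =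
            ∑ j : Fin (i + 2), (-1 : ℤ) ^ (j : ℕ) • (CMap V (SimplexCategory.δ j)).app M := fun V M => by
          dsimp [Cx, AlgebraicTopology.alternatingCofaceMapComplex, AlgebraicTopology.AlternatingCofaceMapComplex.obj]
          exact CochainComplex.of_d _ _ i
        show (Psi α ⦋i⦌).app I ≫ ((Cx W').obj ((pbα α).obj I)).d i (i + 1) =
          G.map (((Cx W).obj I).d i (i + 1)) ≫ (Psi α ⦋i + 1⦌).app I
        rw [hd, hd, Functor.map_sum, Preadditive.comp_sum, Preadditive.sum_comp]
        refine Finset.sum_congr rfl fun j _ => ?_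
        rw [Functor.map_zsmul, Preadditive.comp_zsmul, Preadditive.zsmul_comp, Psi_CMap])
    refine HomologicalComplex.ExactAt.of_iso ?_ e
    have h1 := (HomologicalComplex.exactAt_iff' _ n (n + 1) (n + 2) (by simp) (by simp)).1 (exactAt_Cx W I n)
    exact (HomologicalComplex.exactAt_iff' _ n (n + 1) (n + 2) (by simp) (by simp)).2 (h1.map G)

end Groth.Agent.DescTop
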