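import Groth.Agent.DescSS.TopDescent
import Groth.Agent.SoftTop.Soft
import Mathlib.AlgebraicTopology.AlternatingFaceMapComplex

/-!
# The complex of direct images of the levels of an augmented simplicial space
-/

set_option autoImplicit false
set_option backward.isDefEq.respectTransparency false
set_option backward.isDefEq.respectTransparency.types false
set_option linter.style.haveILetI false

universe u

open CategoryTheory CategoryTheory.Limits Opposite TopologicalSpace Simplicial
open Pseudofunctor.CoGrothendieck
open Groth.Agent.FibSiteLib Groth.Agent.FibSiteLib.TopFam Groth.Agent.DescSS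

noncomputable section

namespace Groth.Agent.DescTop

variable (W : (WithInitial SimplexCategory)ᵒᵖ ⥤ TopCat.{u})

/-- The space of the augmentation. -/
abbrev base : TopCat.{u} := W.obj (FibDesc.bot SimplexCategory)

/-- The simplicial space. -/
abbrev N : SimplexCategoryᵒᵖ ⥤ TopCat.{u} := FibDesc.toAug SimplexCategory ⋙ W

/-- Sheaves on the total site of the simplicial space. -/
abbrev Sh := Sheaf (FamLevel.J (N W)) AddCommGrpCat.{u}

/-- The map of a level to the base. -/
abbrev am (k : SimplexCategory) : (N W).obj (op k) ⟶ base W :=
  W.map (TopLocal.toBot ((FibDesc.toAug SimplexCategory).obj (op k)))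

lemma am_comp {k l : SimplexCategory} (g : k ⟶ l) : (N W).map g.op ≫ am W k = am W l := by
  show W.map _ ≫ W.map _ = W.map _
  rw [← W.map_comp]
  exact congrArg W.map (Quiver.Hom.unop_inj (WithInitial.starInitial.hom_ext _ _))

lemma am_apply {k l : SimplexCategory} (g : k ⟶ l) (x : (N W).obj (op l)) :
    am W k ((N W).map g.op x) = am W l x :=
  ConcreteCategory.congr_hom (am_comp W g) x

/-- The inverse image of an open set of the base in a level. -/
def ob (k : SimplexCategory) (V : Opens (base W)) : ∫ᶜ (topFam (N W)) :=
  (ι (topFam (N W)) (op k)).obj ((Opens.map (am W k)).obj V)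

/-- The maps between the inverse images. -/
def obMap {k l : SimplexCategory} (g : k ⟶ l) {U V : Opens (base W)} (h : U ≤ V) : ob W l U ⟶ ob W k V :=
  TopFam.mk (N W) (X := ob W l U) (W := ob W k V) g.op (fun x hx => by
    show am W k ((N W).map g.op x) ∈ V
    rw [am_apply W g]
    exact h hx)

lemma obMap_comp {k l m : SimplexCategory} (g : k ⟶ l) (g' : l ⟶ m) {U V T : Opens (base W)} (h : U ≤ V)
    (h' : V ≤ T) : obMap W g' h ≫ obMap W g h' = obMap W (g ≫ g') (h.trans h') :=
  TopFam.hom_ext (N W) _ _ rfl

lemma obMap_id (k : SimplexCategory) (V : Opens (base W)) : obMap W (𝟙 k) (le_refl V) = 𝟙 (ob W k V) :=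
  TopFam.hom_ext (N W) _ _ rfl

/-- The direct image of a level. -/
abbrev Ck (k : SimplexCategory) : Sh W ⥤ CohTop.Ab (base W) :=
  FamLevel.r (N W) (op k) ⋙ CohTop.push (am W k)

/-- The maps between the direct images of the levels. -/
def CMap {k l : SimplexCategory} (g : k ⟶ l) : Ck W k ⟶ Ck W l where
  app M := ⟨{
    app := fun V => M.obj.map (obMap W g (le_refl V.unop)).op
    naturality := fun U V i => by
      show M.obj.map _ ≫ M.obj.map _ = M.obj.map _ ≫ M.obj.map _
      rw [← M.obj.map_comp, ← M.obj.map_comp]
      exact congrArg M.obj.map (Quiver.Hom.unop_inj (TopFam.hom_ext (N W) _ _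
        ((Category.comp_id g.op).trans (Category.id_comp g.op).symm))) }⟩
  naturality M M' φ := by
    apply CategoryTheory.Sheaf.hom_ext
    refine NatTrans.ext (funext fun V => ?_)
    exact (φ.hom.naturality (obMap W g (le_refl V.unop)).op).symm

/-- The cosimplicial sheaf of the direct images of the levels. -/
def cosimp : Sh W ⥤ CosimplicialObject (CohTop.Ab (base W)) where
  obj M :=
    { obj := fun k => (Ck W k).obj M
      map := fun g => (CMap W g).app M
      map_id := fun k => by
        apply CategoryTheory.Sheaf.hom_ext
        refine NatTrans.ext (funext fun V => ?_)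
        show M.obj.map (obMap W (𝟙 k) (le_refl V.unop)).op = 𝟙 (M.obj.obj (op (ob W k V.unop)))
        rw [obMap_id, op_id, M.obj.map_id]
      map_comp := fun g g' => by
        apply CategoryTheory.Sheaf.hom_ext
        refine NatTrans.ext (funext fun V => ?_)
        show M.obj.map (obMap W (g ≫ g') (le_refl V.unop)).op =
          M.obj.map (obMap W g (le_refl V.unop)).op ≫ M.obj.map (obMap W g' (le_refl V.unop)).op
        rw [← M.obj.map_comp, ← op_comp, obMap_comp] }
  map φ :=
    { app := fun k => (Ck W k).map φ
      naturality := fun k l g => ((CMap W g).naturality φ).symm }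
  map_id M := NatTrans.ext (funext fun k => (Ck W k).map_id M)
  map_comp φ φ' := NatTrans.ext (funext fun k => (Ck W k).map_comp φ φ')

/-- The complex of the direct images of the levels. -/
def Cx : Sh W ⥤ CochainComplex (CohTop.Ab (base W)) ℕ :=
  cosimp W ⋙ AlgebraicTopology.alternatingCofaceMapComplex _

end Groth.Agent.DescTop
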