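import Groth.Agent.DescTop.AugKer
import Groth.Agent.SiteBase.GodementCx

/-!
# The complex of an injective sheaf on the levels is exact in positive degrees
-/

set_option autoImplicit false
set_option backward.isDefEq.respectTransparency false
set_option backward.isDefEq.respectTransparency.types false
set_option linter.style.haveILetI false

universe u

open CategoryTheory CategoryTheory.Limits Opposite TopologicalSpace Simplicial
open Pseudofunctor.CoGrothendieck
open Groth.Agent.FibSiteLib Groth.Agent.FibSiteLib.TopFam Groth.Agent.DescSS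

noncomputable section

namespace Groth.Agent.DescTop

variable (W : (WithInitial SimplexCategory)ᵒᵖ ⥤ TopCat.{u}) (V : Opens (base W))

/-- The inverse images of an open set as a simplicial object. -/
def obS : SimplicialObject (∫ᶜ (topFam (N W))) where
  obj k := ob W k.unop V
  map g := obMap W g.unop le_rfl
  map_id k := obMap_id W k.unop V
  map_comp g g' := (obMap_comp W g'.unop g.unop le_rfl le_rfl).symm

/-- The free simplicial presheaf. -/
def freeS : SimplicialObject ((∫ᶜ (topFam (N W)))ᵒᵖ ⥤ AddCommGrpCat.{u}) :=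
  obS W V ⋙ CategoryTheory.yoneda ⋙ FamRes.freePre (N W)

/-- The free complex. -/
abbrev freeCx : ChainComplex ((∫ᶜ (topFam (N W)))ᵒᵖ ⥤ AddCommGrpCat.{u}) ℕ :=
  (AlgebraicTopology.alternatingFaceMapComplex _).obj (freeS W V)

/-- Maps from an object inside into the inverse images are maps of indices. -/
def insideEquiv (Z : ∫ᶜ (topFam (N W)))
    (h : fib (N W) Z ≤ (Opens.map (am W Z.base.unop)).obj V) (k : SimplexCategory) :
    (Z ⟶ ob W k V) ≃ (k ⟶ Z.base.unop) where
  toFun f := f.base.unop
  invFun g := TopFam.mk (N W) (X := Z) (W := ob W k V) g.op (fun x hx => by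
    show am W k ((N W).map g.op x) ∈ V
    rw [am_apply W g]
    exact h hx)
  left_inv f := TopFam.hom_ext (N W) _ _ rfl
  right_inv g := rfl

/-- The sections of the free simplicial presheaf inside are free on a simplex. -/
def freeSIso (Z : ∫ᶜ (topFam (N W))) (h : fib (N W) Z ≤ (Opens.map (am W Z.base.unop)).obj V) :
    (((SimplicialObject.Augmented.whiskering _ _).obj AddCommGrpCat.free.{u}).obj
      (SSet.Augmented.stdSimplex.{u}.obj Z.base.unop)).left ≅
    freeS W V ⋙ (evaluation _ AddCommGrpCat.{u}).obj (op Z) :=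
  NatIso.ofComponents (fun k => AddCommGrpCat.free.{u}.mapIso
      (SSet.stdSimplex.objEquiv.trans (insideEquiv W V Z h k.unop).symm).toIso)
    (fun {k k'} g => by
      refine ((AddCommGrpCat.free.{u}.map_comp _ _).symm.trans (Eq.trans ?_ (AddCommGrpCat.free.{u}.map_comp _ _)))
      refine congrArg AddCommGrpCat.free.{u}.map ?_
      ext x
      exact TopFam.hom_ext (N W) _ _ rfl)

theorem exactAt_freeCx (n : ℕ) : (freeCx W V).ExactAt (n + 1) := by
  rw [HomologicalComplex.exactAt_iff]
  refine SiteBase.exact_of_evaluation _ fun Z => ?_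
  let ev := (evaluation (∫ᶜ (topFam (N W)))ᵒᵖ AddCommGrpCat.{u}).obj Z
  by_cases h : fib (N W) Z.unop ≤ (Opens.map (am W Z.unop.base.unop)).obj V
  · let A := ((SimplicialObject.Augmented.whiskering _ _).obj AddCommGrpCat.free.{u}).obj
      (SSet.Augmented.stdSimplex.{u}.obj Z.unop.base.unop)
    haveI : QuasiIso (AlgebraicTopology.AlternatingFaceMapComplex.ε.app A) :=
      inferInstanceAs (QuasiIso
        (((SSet.Augmented.StandardSimplex.extraDegeneracy Z.unop.base.unop).map AddCommGrpCat.free.{u}).homotopyEquiv.hom))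
    have h1 : ((AlgebraicTopology.alternatingFaceMapComplex _).obj A.left).ExactAt (n + 1) :=
      (quasiIsoAt_iff_exactAt' (AlgebraicTopology.AlternatingFaceMapComplex.ε.app A) (n + 1)
        (HomologicalComplex.exactAt_single_obj _ 0 _ (n + 1) (Nat.succ_ne_zero n))).1 inferInstance
    let e : (AlgebraicTopology.alternatingFaceMapComplex _).obj A.left ≅
        (ev.mapHomologicalComplex _).obj (freeCx W V) :=
      (AlgebraicTopology.alternatingFaceMapComplex _).mapIso (freeSIso W V Z.unop h) ≪≫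
        eqToIso (Functor.congr_obj (AlgebraicTopology.map_alternatingFaceMapComplex ev) (freeS W V)).symm
    exact (HomologicalComplex.exactAt_iff _ _).1 (h1.of_iso e)
  · refine ShortComplex.exact_of_isZero_X₂ _ ?_
    haveI : IsEmpty (Z.unop ⟶ ob W ⦋n + 1⦌ V) := ⟨fun f => h fun x hx => by
      have := TopFam.le_of_hom (N W) f hx
      show am W Z.unop.base.unop x ∈ V
      rw [← am_apply W f.base.unop x]
      exact this⟩
    show IsZero (AddCommGrpCat.free.{u}.obj (Z.unop ⟶ ob W ⦋n + 1⦌ V))
    haveI : Subsingleton (FreeAbelianGroup (Z.unop ⟶ ob W ⦋n + 1⦌ V)) :=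
      subsingleton_of_forall_eq 0 fun x => by
        induction x using FreeAbelianGroup.induction_on with
        | zero => rfl
        | of a => exact (IsEmpty.false a).elim
        | neg a _ => exact (IsEmpty.false a).elim
        | add a b ha hb => rw [ha, hb, add_zero]
    exact AddCommGrpCat.isZero_of_subsingleton (AddCommGrpCat.of (FreeAbelianGroup (Z.unop ⟶ ob W ⦋n + 1⦌ V)))

variable (M : Sh W)

/-- The section of a map out of a free presheaf. -/
def secOf (k : SimplexCategory) :
    ((FamRes.freePre (N W)).obj (CategoryTheory.yoneda.obj (ob W k V)) ⟶ M.obj) →+ M.obj.obj (op (ob W k V)) where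
  toFun φ := φ.app (op (ob W k V)) (FreeAbelianGroup.of (𝟙 (ob W k V)))
  map_zero' := rfl
  map_add' φ ψ := rfl

lemma secOf_bijective (k : SimplexCategory) : Function.Bijective (secOf W V M k) :=
  (((AddCommGrpCat.adj.{u}.whiskerRight (∫ᶜ (topFam (N W)))ᵒᵖ).homEquiv (CategoryTheory.yoneda.obj (ob W k V)) M.obj).trans
    CategoryTheory.yonedaEquiv).bijective

lemma secOf_comp {k l : SimplexCategory} (g : k ⟶ l)
    (φ : (FamRes.freePre (N W)).obj (CategoryTheory.yoneda.obj (ob W k V)) ⟶ M.obj) :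
    secOf W V M l ((freeS W V).map g.op ≫ φ) = ((CMap W g).app M).hom.app (op V) (secOf W V M k φ) := by
  show φ.app (op (ob W l V)) (((freeS W V).map g.op).app (op (ob W l V)) (FreeAbelianGroup.of (𝟙 (ob W l V)))) =
    M.obj.map (obMap W g le_rfl).op (φ.app (op (ob W k V)) (FreeAbelianGroup.of (𝟙 (ob W k V))))
  rw [← ConcreteCategory.comp_apply (φ.app (op (ob W k V))) (M.obj.map _), ← φ.naturality, ConcreteCategory.comp_apply]
  refine congrArg (φ.app (op (ob W l V))) ?_
  show FreeAbelianGroup.map _ (FreeAbelianGroup.of (𝟙 (ob W l V))) =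
    FreeAbelianGroup.map _ (FreeAbelianGroup.of (𝟙 (ob W k V)))
  rw [FreeAbelianGroup.map_of_apply, FreeAbelianGroup.map_of_apply]
  exact congrArg FreeAbelianGroup.of (TopFam.hom_ext (N W) _ _
    ((Category.id_comp g.op).trans (Category.comp_id g.op).symm))

lemma secOf_d (n : ℕ) (φ : (freeCx W V).X n ⟶ M.obj) :
    secOf W V M ⦋n + 1⦌ ((freeCx W V).d (n + 1) n ≫ φ) =
      (((Cx W).obj M).d n (n + 1)).hom.app (op V) (secOf W V M ⦋n⦌ φ) := by
  rw [AlgebraicTopology.alternatingFaceMapComplex_obj_d]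
  have hd : ((Cx W).obj M).d n (n + 1) =
      ∑ i : Fin (n + 2), (-1 : ℤ) ^ (i : ℕ) • (CMap W (SimplexCategory.δ i)).app M := by
    dsimp [Cx, AlgebraicTopology.alternatingCofaceMapComplex, AlgebraicTopology.AlternatingCofaceMapComplex.obj]
    rw [CochainComplex.of_d]
    rfl
  rw [hd, AlgebraicTopology.AlternatingFaceMapComplex.objD]
  let Φ : ((Ck W ⦋n⦌).obj M ⟶ (Ck W ⦋n + 1⦌).obj M) →+ M.obj.obj (op (ob W ⦋n + 1⦌ V)) :=
    { toFun := fun q => q.hom.app (op V) (secOf W V M ⦋n⦌ φ)
      map_zero' := rfl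
      map_add' := fun a b => rfl }
  let Ψ : ((freeS W V).obj (op ⦋n + 1⦌) ⟶ (freeS W V).obj (op ⦋n⦌)) →+ M.obj.obj (op (ob W ⦋n + 1⦌ V)) :=
    { toFun := fun q => secOf W V M ⦋n + 1⦌ (q ≫ φ)
      map_zero' := by rw [zero_comp, map_zero]
      map_add' := fun a b => by rw [Preadditive.add_comp, map_add] }
  show Ψ _ = Φ _
  rw [map_sum, map_sum]
  refine Finset.sum_congr rfl fun i _ => ?_
  rw [map_zsmul, map_zsmul]
  exact congrArg _ (secOf_comp W V M (SimplexCategory.δ i) φ)

/-- The complex of an injective sheaf is exact in positive degrees. -/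
theorem exactAt_Cx [Injective M] (n : ℕ) : ((Cx W).obj M).ExactAt (n + 1) := by
  haveI : PreservesFiniteLimits (presheafToSheaf (FamLevel.J (N W)) AddCommGrpCat.{u}) := inferInstance
  haveI : Injective M.obj :=
    (sheafificationAdjunction (FamLevel.J (N W)) AddCommGrpCat.{u}).map_injective M inferInstance
  rw [HomologicalComplex.exactAt_iff' _ n (n + 1) (n + 2) (by simp) (by simp)]
  rw [TopCat.Sheaf.exact_iff_stalkFunctor_map_exact]
  intro s
  rw [ShortComplex.ab_exact_iff]
  intro w hw
  obtain ⟨V, hV, y, rfl⟩ := TopCat.Presheaf.exists_germ_eq _ w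
  rw [ShortComplex.map_g] at hw
  erw [TopCat.Presheaf.stalkFunctor_map_germ_apply] at hw
  obtain ⟨V', hV', a, b, e⟩ := TopCat.Presheaf.germ_eq _ s hV hV _ _ (hw.trans (map_zero _).symm)
  rw [map_zero] at e
  let X₁ := ((Cx W).obj M).X (n + 1)
  let y' : X₁.obj.obj (op V') := X₁.obj.map a.op y
  have hy' : (((Cx W).obj M).d (n + 1) (n + 2)).hom.app (op V') y' = 0 :=
    (ConcreteCategory.congr_hom ((((Cx W).obj M).d (n + 1) (n + 2)).hom.naturality a.op) y).trans e
  obtain ⟨φ, hφ⟩ := (secOf_bijective W V' M ⦋n + 1⦌).2 y'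
  have h0 : (freeCx W V').d (n + 2) (n + 1) ≫ φ = 0 := by
    refine (secOf_bijective W V' M ⦋n + 2⦌).1 ?_
    rw [map_zero]
    exact (secOf_d W V' M (n + 1) φ).trans ((congrArg _ hφ).trans hy')
  have hex := (HomologicalComplex.exactAt_iff' (freeCx W V') (n + 2) (n + 1) n (by simp) (by simp)).1 (exactAt_freeCx W V' n)
  let ψ : (freeCx W V').X n ⟶ M.obj := hex.descToInjective φ h0
  have hψ : (freeCx W V').d (n + 1) n ≫ ψ = φ := hex.comp_descToInjective φ h0
  refine ⟨TopCat.Presheaf.germ (((Cx W).obj M).X n).obj V' s hV' (secOf W V' M ⦋n⦌ ψ), ?_⟩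
  rw [ShortComplex.map_f]
  erw [TopCat.Presheaf.stalkFunctor_map_germ_apply]
  refine Eq.trans (congrArg _ (((secOf_d W V' M n ψ).symm).trans ((congrArg (secOf W V' M ⦋n + 1⦌) hψ).trans hφ))) ?_
  exact TopCat.Presheaf.germ_res_apply X₁.obj a s hV' y

end Groth.Agent.DescTop
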