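import Groth.Agent.DescTop.AugCx
import Groth.Agent.SiteBase.Derived

/-!
# The direct image of the augmentation is the kernel of the first differential
-/

set_option autoImplicit false
set_option backward.isDefEq.respectTransparency false
set_option backward.isDefEq.respectTransparency.types false
set_option linter.style.haveILetI false

universe u

open CategoryTheory CategoryTheory.Limits Opposite TopologicalSpace Simplicial
open Pseudofunctor.CoGrothendieck
open Groth.Agent.FibSiteLib Groth.Agent.FibSiteLib.TopFam Groth.Agent.DescSS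

noncomputable section

namespace Groth.Agent.DescTop

variable (W : (WithInitial SimplexCategory)ᵒᵖ ⥤ TopCat.{u})

/-- The direct image of the augmentation. -/
abbrev θs : Sh W ⥤ CohTop.Ab (base W) :=
  FibDesc.push (FibDesc.topAug W) (FibDesc.topAugTop W) AddCommGrpCat.{u}

/-- The inverse image of the augmentation. -/
abbrev θ : CohTop.Ab (base W) ⥤ Sh W := TopLocal.θ W

/-- The adjunction of the augmentation. -/
abbrev θadj : θ W ⊣ θs W := FibDesc.adj (FibDesc.topAug W) (FibDesc.topAugTop W) AddCommGrpCat.{u}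

/-- The extension to the augmented total category. -/
abbrev ran := (FibDesc.incl (FibDesc.topAug W)).sheafPushforwardCocontinuous AddCommGrpCat.{u}
  (TopLocal.TP W) (TopLocal.TF W)

/-- The adjunction of the extension. -/
abbrev ranAdj := (FibDesc.incl (FibDesc.topAug W)).sheafAdjunctionCocontinuous AddCommGrpCat.{u}
  (TopLocal.TP W) (TopLocal.TF W)

/-- The map to the base of the inverse image of an open set. -/
def toBase (k : SimplexCategory) (V : Opens (base W)) :
    (FibDesc.incl (FibDesc.topAug W)).obj (ob W k V) ⟶ (FibDesc.eps (FibDesc.topAug W)).obj V :=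
  TopFam.mk W (X := (FibDesc.incl (FibDesc.topAug W)).obj (ob W k V)) (W := (FibDesc.eps (FibDesc.topAug W)).obj V)
    (TopLocal.toBot _) le_rfl

lemma to_base_ext {Z : ∫ᶜ (FibDesc.topAug W)} {V : Opens (base W)}
    (a b : Z ⟶ (FibDesc.eps (FibDesc.topAug W)).obj V) : a = b :=
  TopFam.hom_ext W _ _ (Quiver.Hom.unop_inj (WithInitial.starInitial.hom_ext _ _))

/-- Evaluation of the direct image on a level. -/
def ev (k : SimplexCategory) : θs W ⟶ Ck W k where
  app M := ⟨{
    app := fun V => ((ran W).obj M).obj.map (toBase W k V.unop).op ≫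
      ((ranAdj W).counit.app M).hom.app (op (ob W k V.unop))
    naturality := fun U V i => by
      let i' : ob W k V.unop ⟶ ob W k U.unop := obMap W (𝟙 k) i.unop.le
      show ((ran W).obj M).obj.map _ ≫ ((ran W).obj M).obj.map _ ≫ ((ranAdj W).counit.app M).hom.app _ =
        (((ran W).obj M).obj.map _ ≫ ((ranAdj W).counit.app M).hom.app _) ≫ M.obj.map i'.op
      refine Eq.trans ?_ (Category.assoc _ _ _).symm
      refine Eq.trans ?_ (congrArg (fun q => ((ran W).obj M).obj.map _ ≫ q) (((ranAdj W).counit.app M).hom.naturality i'.op))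
      refine (Category.assoc _ _ _).symm.trans (Eq.trans ?_ (Category.assoc _ _ _))
      congr 1
      show ((ran W).obj M).obj.map _ ≫ ((ran W).obj M).obj.map _ =
        ((ran W).obj M).obj.map _ ≫ ((ran W).obj M).obj.map _
      rw [← Functor.map_comp, ← Functor.map_comp]
      exact congrArg _ (Quiver.Hom.unop_inj (to_base_ext W _ _)) }⟩
  naturality M M' φ := by
    apply CategoryTheory.Sheaf.hom_ext
    refine NatTrans.ext (funext fun V => ?_)
    show ((ran W).map φ).hom.app _ ≫ ((ran W).obj M').obj.map _ ≫ ((ranAdj W).counit.app M').hom.app _ =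
      (((ran W).obj M).obj.map _ ≫ ((ranAdj W).counit.app M).hom.app _) ≫ φ.hom.app _
    rw [← Category.assoc, ← ((ran W).map φ).hom.naturality, Category.assoc, Category.assoc]
    congr 1
    exact NatTrans.congr_app (congrArg (fun q => q.hom) ((ranAdj W).counit.naturality φ)) _

lemma ev_CMap {k l : SimplexCategory} (g : k ⟶ l) (M : Sh W) :
    (ev W k).app M ≫ (CMap W g).app M = (ev W l).app M := by
  apply CategoryTheory.Sheaf.hom_ext
  refine NatTrans.ext (funext fun V => ?_)
  show (((ran W).obj M).obj.map _ ≫ ((ranAdj W).counit.app M).hom.app _) ≫ M.obj.map (obMap W g le_rfl).op = _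
  refine (Category.assoc _ _ _).trans ?_
  refine (congrArg (fun q => ((ran W).obj M).obj.map _ ≫ q)
    (((ranAdj W).counit.app M).hom.naturality (obMap W g le_rfl).op).symm).trans ?_
  refine (Category.assoc _ _ _).symm.trans ?_
  show _ = ((ran W).obj M).obj.map (toBase W l V.unop).op ≫ ((ranAdj W).counit.app M).hom.app _
  congr 1
  show ((ran W).obj M).obj.map _ ≫ ((ran W).obj M).obj.map _ = _
  rw [← Functor.map_comp]
  exact congrArg _ (Quiver.Hom.unop_inj (to_base_ext W _ _))

variable (M : Sh W)

/-- The first differential. -/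
abbrev d₀ : (Ck W ⦋0⦌).obj M ⟶ (Ck W ⦋1⦌).obj M :=
  (CMap W (SimplexCategory.δ (0 : Fin 2))).app M - (CMap W (SimplexCategory.δ (1 : Fin 2))).app M

lemma ev_d₀ : (ev W ⦋0⦌).app M ≫ d₀ W M = 0 := by
  rw [Preadditive.comp_sub, ev_CMap, ev_CMap, sub_self]

lemma ev_app_apply (k : SimplexCategory) (V : Opens (base W)) (x : ((θs W).obj M).obj.obj (op V)) :
    ((ev W k).app M).hom.app (op V) x =
      ((ranAdj W).counit.app M).hom.app (op (ob W k V)) (((ran W).obj M).obj.map (toBase W k V).op x) := rfl

lemma vertex_eq {V : Opens (base W)} (s : M.obj.obj (op (ob W ⦋0⦌ V)))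
    (hs : M.obj.map (obMap W (SimplexCategory.δ (0 : Fin 2)) (le_refl V)).op s =
      M.obj.map (obMap W (SimplexCategory.δ (1 : Fin 2)) (le_refl V)).op s) (k : SimplexCategory)
    (i j : Fin (k.len + 1)) :
    M.obj.map (obMap W (SimplexCategory.const ⦋0⦌ k i) (le_refl V)).op s =
      M.obj.map (obMap W (SimplexCategory.const ⦋0⦌ k j) (le_refl V)).op s := by
  wlog h : i ≤ j generalizing i j
  · exact (this j i (le_of_not_ge h)).symm
  induction k using SimplexCategory.rec with
  | _ n =>
    let g : ⦋1⦌ ⟶ ⦋n⦌ := SimplexCategory.mkOfLe i j h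
    have h0 : SimplexCategory.δ (0 : Fin 2) ≫ g = SimplexCategory.const ⦋0⦌ ⦋n⦌ j := by
      ext x : 3; fin_cases x; rfl
    have h1 : SimplexCategory.δ (1 : Fin 2) ≫ g = SimplexCategory.const ⦋0⦌ ⦋n⦌ i := by
      ext x : 3; fin_cases x; rfl
    have := congrArg (M.obj.map (obMap W g (le_refl V)).op) hs
    rw [← ConcreteCategory.comp_apply, ← ConcreteCategory.comp_apply, ← Functor.map_comp, ← Functor.map_comp,
      ← op_comp, ← op_comp, obMap_comp, obMap_comp] at this
    simp only [h0, h1] at this
    exact this.symm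

theorem exists_ev_eq (V : Opens (base W)) (s : M.obj.obj (op (ob W ⦋0⦌ V)))
    (hs : M.obj.map (obMap W (SimplexCategory.δ (0 : Fin 2)) (le_refl V)).op s =
      M.obj.map (obMap W (SimplexCategory.δ (1 : Fin 2)) (le_refl V)).op s) :
    ∃ x, ((ev W ⦋0⦌).app M).hom.app (op V) x = s := by
  let F := FibDesc.incl (FibDesc.topAug W)
  let X : (∫ᶜ (FibDesc.topAug W))ᵒᵖ := op ((FibDesc.eps (FibDesc.topAug W)).obj V)
  let hL := F.op.isPointwiseRightKanExtensionRanCounit M.obj X
  have hle : ∀ j : StructuredArrow X F.op,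
      fib (N W) j.right.unop ≤ (Opens.map (am W j.right.unop.base.unop)).obj V := fun j x hx => by
    have := le_of_hom W j.hom.unop hx
    rw [show j.hom.unop.base = TopLocal.toBot _ from Quiver.Hom.unop_inj (WithInitial.starInitial.hom_ext _ _)] at this
    exact this
  let a : ∀ j : StructuredArrow X F.op, j.right.unop ⟶ ob W j.right.unop.base.unop V := fun j =>
    TopFam.mk (N W) (X := j.right.unop) (W := ob W j.right.unop.base.unop V) (𝟙 _) (fun x hx => by
      show (N W).map (𝟙 j.right.unop.base) x ∈ (Opens.map (am W j.right.unop.base.unop)).obj V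
      rw [(N W).map_id]
      exact hle j hx)
  let v : ∀ j : StructuredArrow X F.op, ob W j.right.unop.base.unop V ⟶ ob W ⦋0⦌ V := fun j =>
    obMap W (SimplexCategory.const ⦋0⦌ _ 0) (le_refl V)
  let t : ∀ j : StructuredArrow X F.op, M.obj.obj j.right := fun j =>
    M.obj.map (a j ≫ v j).op s
  have ht : ∀ {j j' : StructuredArrow X F.op} (q : j ⟶ j'), M.obj.map q.right (t j) = t j' := by
    intro j j' q
    let g := q.right.unop.base.unop
    have e : q.right.unop ≫ a j ≫ v j =
        a j' ≫ obMap W (SimplexCategory.const ⦋0⦌ j'.right.unop.base.unop (g.toOrderHom 0)) (le_refl V) := by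
      refine TopFam.hom_ext (N W) _ _ (Quiver.Hom.unop_inj ?_)
      show (SimplexCategory.const ⦋0⦌ _ 0 ≫ 𝟙 _) ≫ g = SimplexCategory.const ⦋0⦌ _ (g.toOrderHom 0) ≫ 𝟙 _
      rw [Category.comp_id, Category.comp_id]
      rfl
    show M.obj.map q.right (M.obj.map (a j ≫ v j).op s) = M.obj.map (a j' ≫ v j').op s
    rw [← ConcreteCategory.comp_apply, ← M.obj.map_comp,
      show (a j ≫ v j).op ≫ q.right = (q.right.unop ≫ a j ≫ v j).op from rfl, e, op_comp, M.obj.map_comp,
      ConcreteCategory.comp_apply, vertex_eq W M s hs _ (g.toOrderHom 0) 0, ← ConcreteCategory.comp_apply,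
      ← M.obj.map_comp]
    rfl
  let P := AddCommGrpCat.of (ULift.{u} ℤ)
  let c : Cone (StructuredArrow.proj X F.op ⋙ M.obj) :=
    { pt := P
      π :=
        { app := fun j => (AddCommGrpCat.uliftZMultiplesAddEquiv _).symm (t j)
          naturality := fun j j' q => by
            refine (Category.id_comp _).trans ((AddCommGrpCat.uliftZMultiplesAddEquiv _).injective ?_)
            rw [AddEquiv.apply_symm_apply]
            refine ((ht q).symm).trans ?_
            show M.obj.map q.right (t j) = M.obj.map q.right (AddCommGrpCat.uliftZMultiplesAddEquiv _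
              ((AddCommGrpCat.uliftZMultiplesAddEquiv _).symm (t j)))
            rw [AddEquiv.apply_symm_apply] } }
  refine ⟨AddCommGrpCat.uliftZMultiplesAddEquiv _ (hL.lift c), ?_⟩
  let j₀ : StructuredArrow X F.op :=
    StructuredArrow.mk (Y := op (ob W ⦋0⦌ V)) ((toBase W ⦋0⦌ V).op : X ⟶ F.op.obj (op (ob W ⦋0⦌ V)))
  have h := congrArg (AddCommGrpCat.uliftZMultiplesAddEquiv _) (hL.fac c j₀)
  refine Eq.trans ?_ (h.trans ((AddEquiv.apply_symm_apply _ (t j₀)).trans ?_))
  · rw [ev_app_apply]
    have hc : ((ranAdj W).counit.app M).hom = F.op.ranCounit.app M.obj := by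
      rw [Functor.sheafAdjunctionCocontinuous_counit_app_hom, Functor.ranAdjunction_counit]
    rw [hc]
    rfl
  · show M.obj.map (a j₀ ≫ v j₀).op s = s
    rw [show a j₀ ≫ v j₀ = 𝟙 _ from TopFam.hom_ext (N W) _ _ (Quiver.Hom.unop_inj (SimplexCategory.hom_zero_zero _))]
    exact ConcreteCategory.congr_hom (M.obj.map_id (op (ob W ⦋0⦌ V))) s

theorem ev_injective (V : Opens (base W)) :
    Function.Injective (((ev W ⦋0⦌).app M).hom.app (op V)) := by
  intro x y hxy
  let F := FibDesc.incl (FibDesc.topAug W)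
  let X : (∫ᶜ (FibDesc.topAug W))ᵒᵖ := op ((FibDesc.eps (FibDesc.topAug W)).obj V)
  refine Concrete.isLimit_ext _ (F.op.isPointwiseRightKanExtensionRanCounit M.obj X) x y fun j => ?_
  have hc : ((ranAdj W).counit.app M).hom = F.op.ranCounit.app M.obj := by
    rw [Functor.sheafAdjunctionCocontinuous_counit_app_hom, Functor.ranAdjunction_counit]
  rw [ev_app_apply, ev_app_apply, hc] at hxy
  have hle : fib (N W) j.right.unop ≤ (Opens.map (am W j.right.unop.base.unop)).obj V := fun x hx => by
    have := le_of_hom W j.hom.unop hx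
    rw [show j.hom.unop.base = TopLocal.toBot _ from Quiver.Hom.unop_inj (WithInitial.starInitial.hom_ext _ _)] at this
    exact this
  let b : j.right.unop ⟶ ob W ⦋0⦌ V :=
    TopFam.mk (N W) (X := j.right.unop) (W := ob W ⦋0⦌ V) (SimplexCategory.const ⦋0⦌ j.right.unop.base.unop 0).op (fun x hx => by
      show am W ⦋0⦌ ((N W).map (SimplexCategory.const ⦋0⦌ j.right.unop.base.unop 0).op x) ∈ V
      rw [am_apply W]
      exact hle hx)
  have hb : j.hom = (toBase W ⦋0⦌ V).op ≫ F.op.map b.op := Quiver.Hom.unop_inj (to_base_ext W _ _)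
  show (F.op.ranCounit.app M.obj).app j.right ((F.op.ran.obj M.obj).map j.hom x) =
    (F.op.ranCounit.app M.obj).app j.right ((F.op.ran.obj M.obj).map j.hom y)
  rw [hb, Functor.map_comp, ConcreteCategory.comp_apply, ConcreteCategory.comp_apply]
  refine (ConcreteCategory.congr_hom ((F.op.ranCounit.app M.obj).naturality b.op) _).trans
    (Eq.trans ?_ (ConcreteCategory.congr_hom ((F.op.ranCounit.app M.obj).naturality b.op) _).symm)
  exact congrArg (M.obj.map b.op) hxy

/-- The augmentation is exact. -/
theorem exact_ev : (ShortComplex.mk ((ev W ⦋0⦌).app M) (d₀ W M) (ev_d₀ W M)).Exact ∧ Mono ((ev W ⦋0⦌).app M) := by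
  let S := ShortComplex.mk ((ev W ⦋0⦌).app M) (d₀ W M) (ev_d₀ W M)
  let G := sheafToPresheaf (Opens.grothendieckTopology (base W)) AddCommGrpCat.{u}
  haveI hm : Mono S.f := by
    haveI : Mono (G.map S.f) := NatTrans.mono_iff_mono_app _ |>.2 fun V =>
      (AddCommGrpCat.mono_iff_injective _).2 (ev_injective W M V.unop)
    exact G.mono_of_mono_map this
  refine ⟨?_, hm⟩
  haveI : G.Additive := Groth.Agent.SiteBase.additive_sheafToPresheaf
  refine S.exact_of_f_is_kernel (isLimitOfReflects G ((isLimitMapConeForkEquiv' G S.zero).symm ?_))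
  have hS : (S.map G).Exact := by
    refine Groth.Agent.SiteBase.exact_of_evaluation _ fun V => (ShortComplex.ab_exact_iff _).2 fun (y : M.obj.obj (op (ob W ⦋0⦌ V.unop))) hy => ?_
    refine exists_ev_eq W M V.unop y (sub_eq_zero.1 ?_)
    exact hy
  haveI : Mono (S.map G).f := inferInstanceAs (Mono (G.map S.f))
  exact hS.fIsKernel

end Groth.Agent.DescTop
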