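import Groth.Agent.DescTop.AugAcyclic
import Groth.Agent.SoftTop.BaseChangeData

/-!
# Levels of inverse images on total sites, as inverse image data
-/

set_option autoImplicit false
set_option backward.isDefEq.respectTransparency false
set_option backward.isDefEq.respectTransparency.types false
set_option linter.style.haveILetI false

universe u

open CategoryTheory CategoryTheory.Limits Opposite TopologicalSpace Simplicial
open Pseudofunctor.CoGrothendieck
open Groth.Agent.FibSiteLib Groth.Agent.FibSiteLib.TopFam Groth.Agent.DescSS Groth.Agent.FibBi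

noncomputable section

namespace Groth.Agent.DescTop

section fam

variable {P Q : SimplexCategoryᵒᵖ ⥤ TopCat.{u}} (β : Q ⟶ P) (k : SimplexCategoryᵒᵖ)

/-- The square of a level of a map of families. -/
abbrev wFam : Opens.map (β.app k) ⋙ ι (topFam Q) k ⟶ ι (topFam P) k ⋙ TopFam.K β :=
  (TopFam.ιK β k).inv

instance guitartExact_wFam :
    (TwoSquare.mk (Opens.map (β.app k)) (ι (topFam P) k) (ι (topFam Q) k) (TopFam.K β) (wFam β k)).GuitartExact := by
  rw [TwoSquare.guitartExact_iff_isConnected_rightwards]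
  intro V X g
  let sq := TwoSquare.mk (Opens.map (β.app k)) (ι (topFam P) k) (ι (topFam Q) k) (TopFam.K β) (wFam β k)
  let U₀ : Opens (P.obj k) := (Opens.map (P.map g.base)).obj (fib P X)
  have hV : (V : Set (Q.obj k)) ⊆ ((Opens.map (β.app k)).obj U₀ : Set (Q.obj k)) := fun x hx => by
    show P.map g.base (β.app k x) ∈ fib P X
    exact Eq.mpr (congrArg (fun y => y ∈ fib P X) (β_map β (show k ⟶ X.base from g.base) x)) (le_of_hom Q g hx)
  let b₀ : (ι (topFam P) k).obj U₀ ⟶ X := TopFam.mk P (X := (ι (topFam P) k).obj U₀) (W := X) g.base le_rfl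
  let j₀ : sq.StructuredArrowRightwards g := TwoSquare.StructuredArrowRightwards.mk sq g U₀ (homOfLE hV) b₀
    (TopFam.hom_ext Q _ _ (by
      show (𝟙 k ≫ 𝟙 _) ≫ 𝟙 _ ≫ g.base = g.base
      simp))
  haveI : Nonempty (sq.StructuredArrowRightwards g) := ⟨j₀⟩
  refine zigzag_isConnected fun j₁ j₂ => ?_
  have key : ∀ j, Zigzag j j₀ := fun j => by
    obtain ⟨U, a, b, hab, rfl⟩ := TwoSquare.StructuredArrowRightwards.mk_surjective j
    have hb : b.base = g.base := by
      have h := congrArg Hom.base hab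
      change (𝟙 k ≫ 𝟙 _) ≫ 𝟙 _ ≫ b.base = g.base at h
      simpa using h
    let n : U ⟶ U₀ := homOfLE (X := Opens (P.obj k)) (fun x hx => by
      show P.map g.base x ∈ fib P X
      rw [← hb]
      exact le_of_hom P b hx)
    exact Zigzag.of_hom (StructuredArrow.homMk (CostructuredArrow.homMk n (TopFam.hom_ext P _ _ (by
      show (𝟙 k ≫ 𝟙 _) ≫ g.base = b.base
      simp [hb])))
      (CostructuredArrow.hom_ext _ _ (Subsingleton.elim (α := V ⟶ (Opens.map (β.app k)).obj U₀) _ _)))
  exact (key j₁).trans (key j₂).symm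

/-- A level of an inverse image along a map of families is an inverse image. -/
def pbData (M : Sheaf (FamLevel.J P) AddCommGrpCat.{u}) :
    SoftTop.PullData (β.app k) ((FamLevel.r P k).obj M) ((FamLevel.r Q k).obj ((FamBC.pb β).obj M)) :=
  haveI : (Opens.map (β.app k)).IsContinuous (top P k) (top Q k) :=
    inferInstanceAs ((Opens.map (β.app k)).IsContinuous (Opens.grothendieckTopology _) (Opens.grothendieckTopology _))
  haveI : (ι (topFam P) k).IsContinuous (top P k) (FamLevel.J P) := isContinuous_ι (TopFam.isPreFibSite P) k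
  haveI : (ι (topFam P) k).IsCocontinuous (top P k) (FamLevel.J P) := isCocontinuous_ι (TopFam.isPreFibSite P) k
  haveI : (ι (topFam Q) k).IsContinuous (top Q k) (FamLevel.J Q) := isContinuous_ι (TopFam.isPreFibSite Q) k
  haveI : (ι (topFam Q) k).IsCocontinuous (top Q k) (FamLevel.J Q) := isCocontinuous_ι (TopFam.isPreFibSite Q) k
  haveI := @SquareMate.isIso_c (Opens (P.obj k)) (∫ᶜ (topFam P)) (Opens (Q.obj k)) (∫ᶜ (topFam Q)) _ _ _ _
    (top P k) (FamLevel.J P) (top Q k) (FamLevel.J Q)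
    (ι (topFam P) k) (Opens.map (β.app k)) (TopFam.K β) (ι (topFam Q) k) (wFam β k) _ _ _ _ _ _ (guitartExact_wFam β k)
  (SoftTop.pullData (β.app k) ((FamLevel.r P k).obj M)).ofIso
    ((SquareMate.c (J₁ := top P k) (J₂ := FamLevel.J P) (J₃ := top Q k) (J₄ := FamLevel.J Q)
      (ι (topFam P) k) (Opens.map (β.app k)) (TopFam.K β) (ι (topFam Q) k) (wFam β k)).app M)
    (((FamLevel.r P k).map (((TopFam.K β).sheafAdjunctionContinuous AddCommGrpCat.{u} (FamLevel.J P) (FamLevel.J Q)).unit.app M)).hom ≫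
      Functor.whiskerRight (NatTrans.op (wFam β k)) ((FamBC.pb β).obj M).obj)
    (congrArg (fun q => q.hom) (SquareMate.rel_c (J₁ := top P k) (J₂ := FamLevel.J P) (J₃ := top Q k)
      (J₄ := FamLevel.J Q) (ι (topFam P) k) (Opens.map (β.app k)) (TopFam.K β) (ι (topFam Q) k) (wFam β k) M))

end fam

section aug

variable (W : (WithInitial SimplexCategory)ᵒᵖ ⥤ TopCat.{u}) (p : ℕ)

/-- A level of the inverse image of the augmentation is an inverse image. -/
def augData (X : CohTop.Ab (base W)) :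
    SoftTop.PullData (am W ⦋p⦌) X ((FamLevel.r (N W) (op ⦋p⦌)).obj ((θ W).obj X)) :=
  haveI : (𝟭 (Opens (base W))).IsContinuous (TopLocal.TB W) (TopLocal.TB W) := Functor.isContinuous_id _
  haveI : (𝟭 (Opens (base W))).IsCocontinuous (TopLocal.TB W) (TopLocal.TB W) := CategoryTheory.isCocontinuous_id _
  haveI : (ι (topFam W) ((FibDesc.toAug SimplexCategory).obj (op ⦋p⦌))).IsContinuous (top (N W) (op ⦋p⦌)) (TopLocal.TF W) :=
    isContinuous_ι (TopFam.isPreFibSite W) _
  haveI : (ι (topFam W) ((FibDesc.toAug SimplexCategory).obj (op ⦋p⦌))).IsCocontinuous (top (N W) (op ⦋p⦌)) (TopLocal.TF W) :=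
    isCocontinuous_ι (TopFam.isPreFibSite W) _
  haveI : (ι (topFam W) (FibDesc.bot SimplexCategory)).IsContinuous (TopLocal.TB W) (TopLocal.TF W) :=
    isContinuous_ι (TopFam.isPreFibSite W) _
  haveI : (Opens.map (am W ⦋p⦌)).IsContinuous (TopLocal.TB W) (top (N W) (op ⦋p⦌)) :=
    inferInstanceAs ((Opens.map (am W ⦋p⦌)).IsContinuous (Opens.grothendieckTopology _) (Opens.grothendieckTopology _))
  haveI : (FibDesc.incl (FibDesc.topAug W)).IsContinuous (FamLevel.J (N W)) (TopLocal.TF W) :=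
    TopSplit.isContinuous_baseChange W (FibDesc.toAug SimplexCategory)
  haveI := TopDescent.guitartExact_wLev W p
  haveI := Functor.isContinuous_comp (ι (topFam (N W)) (op ⦋p⦌)) (FibDesc.incl (FibDesc.topAug W))
    (top (N W) (op ⦋p⦌)) (FamLevel.J (N W)) (TopLocal.TF W)
  haveI := @SquareMate.isIso_c (Opens (base W)) (Opens (base W)) (Opens ((N W).obj (op ⦋p⦌))) (∫ᶜ (topFam W)) _ _ _ _
    (TopLocal.TB W) (TopLocal.TB W) (top (N W) (op ⦋p⦌)) (TopLocal.TF W) (𝟭 (Opens (base W))) (Opens.map (am W ⦋p⦌))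
    (ι (topFam W) (FibDesc.bot SimplexCategory)) (ι (topFam W) ((FibDesc.toAug SimplexCategory).obj (op ⦋p⦌)))
    (TopDescent.wLev W p) _ _ _ _ _ _ (TopDescent.guitartExact_wLev W p)
  let F := ((FibDesc.eps (FibDesc.topAug W)).sheafPullback AddCommGrpCat.{u} (TopLocal.TB W) (TopLocal.TF W)).obj X
  let cc := (SquareMate.c (J₁ := TopLocal.TB W) (J₂ := TopLocal.TB W) (J₃ := top (N W) (op ⦋p⦌)) (J₄ := TopLocal.TF W)
    (𝟭 (Opens (base W))) (Opens.map (am W ⦋p⦌)) (ι (topFam W) (FibDesc.bot SimplexCategory))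
    (ι (topFam W) ((FibDesc.toAug SimplexCategory).obj (op ⦋p⦌))) (TopDescent.wLev W p)).app X
  let e := (Functor.sheafPushforwardContinuousComp' (TopDescent.levIncl W p) AddCommGrpCat.{u}
    (top (N W) (op ⦋p⦌)) (FamLevel.J (N W)) (TopLocal.TF W)).inv.app F
  let ee : (CohTop.pull (am W ⦋p⦌)).obj X ≅ (FamLevel.r (N W) (op ⦋p⦌)).obj ((θ W).obj X) :=
    asIso cc ≪≫ (Functor.sheafPushforwardContinuousComp' (TopDescent.levIncl W p) AddCommGrpCat.{u}
      (top (N W) (op ⦋p⦌)) (FamLevel.J (N W)) (TopLocal.TF W)).symm.app F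
  (SoftTop.pullData (am W ⦋p⦌) X).ofIso ee.hom
    ((θadj W).unit.app X ≫ (ev W ⦋p⦌).app ((θ W).obj X)).hom (by
      have h := congrArg (fun q => q.hom) (SquareMate.rel_c (J₁ := TopLocal.TB W) (J₂ := TopLocal.TB W)
        (J₃ := top (N W) (op ⦋p⦌)) (J₄ := TopLocal.TF W) (𝟭 (Opens (base W))) (Opens.map (am W ⦋p⦌))
        (ι (topFam W) (FibDesc.bot SimplexCategory))
        (ι (topFam W) ((FibDesc.toAug SimplexCategory).obj (op ⦋p⦌))) (TopDescent.wLev W p) X)
      refine NatTrans.ext (funext fun V => ?_)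
      have hV := congrArg (fun q => q ≫ e.hom.app (op ((Opens.map (am W ⦋p⦌)).obj V.unop)))
        (NatTrans.congr_app h V)
      refine Eq.trans (Category.assoc _ _ _).symm (hV.trans ?_)
      let u₀ := (((FibDesc.eps (FibDesc.topAug W)).sheafAdjunctionContinuous AddCommGrpCat.{u}
        (TopLocal.TB W) (TopLocal.TF W)).unit.app X).hom.app V
      have tri : ((ranAdj W).unit.app F).hom.app (op ((FibDesc.incl (FibDesc.topAug W)).obj (ob W ⦋p⦌ V.unop))) ≫
          ((ranAdj W).counit.app ((θ W).obj X)).hom.app (op (ob W ⦋p⦌ V.unop)) = 𝟙 _ :=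
        NatTrans.congr_app (congrArg (fun q => q.hom) ((ranAdj W).left_triangle_components F)) _
      show (u₀ ≫ F.obj.map ((TopDescent.wLev W p).app V.unop).op) ≫ e.hom.app _ =
        (u₀ ≫ ((ranAdj W).unit.app F).hom.app _) ≫ ((ran W).obj ((θ W).obj X)).obj.map (toBase W ⦋p⦌ V.unop).op ≫
          ((ranAdj W).counit.app ((θ W).obj X)).hom.app _
      rw [Category.assoc, Category.assoc]
      congr 1
      rw [← Category.assoc _ (((ran W).obj ((θ W).obj X)).obj.map (toBase W ⦋p⦌ V.unop).op)]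
      refine Eq.trans ?_ (congrArg (fun q => q ≫ ((ranAdj W).counit.app ((θ W).obj X)).hom.app (op (ob W ⦋p⦌ V.unop)))
        (((ranAdj W).unit.app F).hom.naturality (toBase W ⦋p⦌ V.unop).op))
      refine Eq.trans ?_ (Category.assoc _ _ _).symm
      refine Eq.trans ?_ (congrArg (fun q => F.obj.map (toBase W ⦋p⦌ V.unop).op ≫ q) tri).symm
      refine Eq.trans ?_ (Category.comp_id _).symm
      simp [e, Functor.sheafPushforwardContinuousComp']
      refine (congrArg (fun q => _ ≫ q) (Category.comp_id _)).trans ((F.obj.map_comp _ _).symm.trans ?_)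
      exact congrArg F.obj.map (Quiver.Hom.unop_inj (to_base_ext W _ _)))

lemma augData_η (X : CohTop.Ab (base W)) :
    (augData W p X).η = ((θadj W).unit.app X ≫ (ev W ⦋p⦌).app ((θ W).obj X)).hom := rfl

end aug

end Groth.Agent.DescTop
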