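import Groth.Agent.DescTop.ProperDescent
import Groth.Agent.SoftTop.PullbackTop
import Groth.Agent.FibSiteLib.CechSection

/-!
# Proper surjections are of cohomological descent
-/

set_option autoImplicit false
set_option backward.isDefEq.respectTransparency false
set_option backward.isDefEq.respectTransparency.types false
set_option linter.style.haveILetI false

universe u

open CategoryTheory CategoryTheory.Limits Opposite TopologicalSpace Simplicial Topology Filter

noncomputable section

namespace Groth.Agent.DescTop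

section wide

variable {X S : TopCat.{u}} (f : X ⟶ S) (n : ℕ)

/-- The fibre power. -/
abbrev WP : TopCat.{u} := widePullback.{0} S (fun _ : Fin (n + 1) => X) (fun _ => f)

/-- The coordinates. -/
def coords (x : WP f n) (i : Fin (n + 1)) : X := WidePullback.π (fun _ : Fin (n + 1) => f) i x

lemma coords_base (x : WP f n) (i : Fin (n + 1)) :
    f (coords f n x i) = WidePullback.base (fun _ : Fin (n + 1) => f) x :=
  ConcreteCategory.congr_hom (WidePullback.π_arrow (fun _ : Fin (n + 1) => f) i) x

lemma coords_spec : IsEmbedding (coords f n) ∧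
    ∀ p : Fin (n + 1) → X, (∀ i, f (p i) = f (p 0)) → ∃ x, coords f n x = p := by
  let Q : TopCat.{u} := TopCat.of {p : Fin (n + 1) → X // ∀ i, f (p i) = f (p 0)}
  let q : ∀ i, Q ⟶ X := fun i => TopCat.ofHom ⟨fun p => p.1 i, (continuous_apply i).comp continuous_subtype_val⟩
  let l : Q ⟶ WP f n := WidePullback.lift (q 0 ≫ f) q (fun i => by
    ext p
    exact p.2 i)
  have hlc : ∀ (p : Q) (i : Fin (n + 1)), coords f n (l p) i = p.1 i := fun p i =>
    ConcreteCategory.congr_hom (WidePullback.lift_π (fun _ : Fin (n + 1) => f) (q 0 ≫ f) q _ i) p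
  let r : WP f n ⟶ Q := TopCat.ofHom
    ⟨fun x => ⟨coords f n x, fun i => (coords_base f n x i).trans (coords_base f n x 0).symm⟩,
      (continuous_pi fun i => (WidePullback.π (fun _ : Fin (n + 1) => f) i).hom.continuous).subtype_mk _⟩
  have hrl : r ≫ l = 𝟙 _ := by
    refine WidePullback.hom_ext _ _ _ (fun i => ?_) ?_
    · ext x
      exact hlc (r x) i
    · ext x
      show WidePullback.base (fun _ : Fin (n + 1) => f) (l (r x)) = WidePullback.base (fun _ : Fin (n + 1) => f) x
      rw [← coords_base f n (l (r x)) 0, hlc, ← coords_base f n x 0]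
      rfl
  have hlr : l ≫ r = 𝟙 _ := by
    refine ConcreteCategory.hom_ext _ _ fun p => ?_
    refine Subtype.ext (funext fun i => ?_)
    exact hlc p i
  let h := TopCat.homeoOfIso (Iso.mk r l hrl hlr)
  exact ⟨IsEmbedding.subtypeVal.comp h.isEmbedding, fun p hp => ⟨l ⟨p, hp⟩, funext (hlc ⟨p, hp⟩)⟩⟩

variable {f}

lemma isProperMap_base (hf : IsProperMap f) : IsProperMap (WidePullback.base (fun _ : Fin (n + 1) => f)) := by
  obtain ⟨hemb, hpts⟩ := coords_spec f n
  rw [isProperMap_iff_ultrafilter] at hf ⊢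
  refine ⟨(WidePullback.base (fun _ : Fin (n + 1) => f)).hom.continuous, fun 𝒰 s hs => ?_⟩
  have hi : ∀ i, ∃ x : X, f x = s ∧ Tendsto (fun w => coords f n w i) 𝒰 (𝓝 x) := fun i => by
    have h1 : Tendsto f (𝒰.map fun w => coords f n w i) (𝓝 s) := by
      rw [Ultrafilter.coe_map, Filter.tendsto_map'_iff]
      exact hs.congr fun w => (coords_base f n w i).symm
    obtain ⟨x, hx, hle⟩ := hf.2 h1
    exact ⟨x, hx, hle⟩
  choose x hx hlim using hi
  obtain ⟨w, hw⟩ := hpts x (fun i => (hx i).trans (hx 0).symm)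
  refine ⟨w, ?_, ?_⟩
  · rw [← coords_base f n w 0, congrFun hw 0, hx]
  · rw [hemb.isInducing.nhds_eq_comap, ← Filter.map_le_iff_le_comap, hw]
    exact tendsto_pi_nhds.2 hlim

lemma sep_base (hs : ∀ x x' : X, f x = f x' → x ≠ x' →
      ∃ U V : Set X, IsOpen U ∧ IsOpen V ∧ x ∈ U ∧ x' ∈ V ∧ Disjoint U V) (a b : WP f n)
    (hab : WidePullback.base (fun _ : Fin (n + 1) => f) a = WidePullback.base (fun _ : Fin (n + 1) => f) b)
    (hne : a ≠ b) : ∃ U V : Set (WP f n), IsOpen U ∧ IsOpen V ∧ a ∈ U ∧ b ∈ V ∧ Disjoint U V := by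
  obtain ⟨i, hi⟩ := Function.ne_iff.1 ((coords_spec f n).1.injective.ne hne)
  obtain ⟨U, V, hU, hV, ha, hb, hd⟩ := hs _ _ (by rw [coords_base, coords_base, hab]) hi
  have hc : Continuous fun w => coords f n w i := (WidePullback.π (fun _ : Fin (n + 1) => f) i).hom.continuous
  exact ⟨_, _, hU.preimage hc, hV.preimage hc, ha, hb, hd.preimage _⟩

end wide

variable {X T S : TopCat.{u}} (f : X ⟶ S) (g : T ⟶ S)

/-- The base change of augmented Čech nerves. -/
abbrev bcAug : FibDesc.cechAug (pullback.snd f g) ⟶ FibDesc.cechAug f :=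
  AugmentedSimplexCategory.equivAugmentedSimplicialObject.inverse.map
    (Arrow.mapAugmentedCechNerve (Arrow.homMk (pullback.fst f g) g pullback.condition :
      Arrow.mk (pullback.snd f g) ⟶ Arrow.mk f))

/-- The map of fibre powers. -/
abbrev φn (n : ℕ) : WP (pullback.snd f g) n ⟶ WP f n :=
  WidePullback.lift (WidePullback.base _ ≫ g) (fun i => WidePullback.π _ i ≫ pullback.fst f g)
    (fun i => by rw [Category.assoc, pullback.condition, ← Category.assoc, WidePullback.π_arrow])

lemma bcSquare (n : ℕ) (hf : IsProperMap f)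
    (hs : ∀ x x' : X, f x = f x' → x ≠ x' → ∃ U V : Set X, IsOpen U ∧ IsOpen V ∧ x ∈ U ∧ x' ∈ V ∧ Disjoint U V) :
    SoftTop.BCSquare (WidePullback.base (fun _ : Fin (n + 1) => f)) g
      (WidePullback.base (fun _ : Fin (n + 1) => pullback.snd f g)) (φn f g n) := by
  obtain ⟨hemb, hpts⟩ := SoftTop.pullback_embedding (IsPullback.of_hasPullback f g)
  have hf' : IsProperMap (pullback.snd f g) := SoftTop.isProperMap_snd (IsPullback.of_hasPullback f g) hf
  have hφ : ∀ w i, coords f n (φn f g n w) i = pullback.fst f g (coords (pullback.snd f g) n w i) := fun w i =>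
    ConcreteCategory.congr_hom (WidePullback.lift_π (fun _ : Fin (n + 1) => f) _ _ _ i) w
  have hb : ∀ w, WidePullback.base (fun _ : Fin (n + 1) => f) (φn f g n w) =
      g (WidePullback.base (fun _ : Fin (n + 1) => pullback.snd f g) w) := fun w =>
    ConcreteCategory.congr_hom (WidePullback.lift_base (fun _ : Fin (n + 1) => f) _ _ _) w
  refine ⟨hb, ?_, fun p t hpt => ?_, isProperMap_base n hf, isProperMap_base n hf', sep_base n hs⟩
  · refine IsEmbedding.of_comp
      (g := fun q : WP f n × T => fun i : Fin (n + 1) => (coords f n q.1 i, q.2))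
      ((φn f g n).hom.continuous.prodMk
        (WidePullback.base (fun _ : Fin (n + 1) => pullback.snd f g)).hom.continuous)
      (continuous_pi fun i => (((WidePullback.π (fun _ : Fin (n + 1) => f) i).hom.continuous.comp
        continuous_fst).prodMk continuous_snd)) ?_
    have h2 := (IsEmbedding.piMap (fun _ : Fin (n + 1) => hemb)).comp (coords_spec (pullback.snd f g) n).1
    convert h2 using 1
    refine funext fun w => funext fun i => Prod.ext (hφ w i) ?_
    exact (coords_base (pullback.snd f g) n w i).symm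
  · have hi : ∀ i, ∃ x', pullback.fst f g x' = coords f n p i ∧ pullback.snd f g x' = t := fun i =>
      hpts _ t ((coords_base f n p i).trans hpt)
    choose x hx₁ hx₂ using hi
    obtain ⟨w, hw⟩ := (coords_spec (pullback.snd f g) n).2 x (fun i => (hx₂ i).trans (hx₂ 0).symm)
    refine ⟨w, (coords_spec f n).1.injective (funext fun i => ?_), ?_⟩
    · rw [hφ, congrFun hw i, hx₁]
    · rw [← coords_base (pullback.snd f g) n w 0, congrFun hw 0, hx₂]

theorem isBC_bcAug (hf : IsProperMap f)
    (hs : ∀ x x' : X, f x = f x' → x ≠ x' → ∃ U V : Set X, IsOpen U ∧ IsOpen V ∧ x ∈ U ∧ x' ∈ V ∧ Disjoint U V) :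
    IsBC (bcAug f g) := by
  intro k
  induction k using SimplexCategory.rec with
  | _ n => exact bcSquare f g n hf hs

/-- A space with the discrete topology. -/
def Disc (S : Type u) : Type u := S

instance (S : Type u) : TopologicalSpace (Disc S) := ⊥

instance (S : Type u) : DiscreteTopology (Disc S) := ⟨rfl⟩

/-- A proper surjection is of cohomological descent. -/
theorem isCohDescentMap_of_proper (hf : IsProperMap f)
    (hs : ∀ x x' : X, f x = f x' → x ≠ x' → ∃ U V : Set X, IsOpen U ∧ IsOpen V ∧ x ∈ U ∧ x' ∈ V ∧ Disjoint U V)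
    (hsurj : Function.Surjective f) : FibDesc.IsCohDescentMap f := by
  classical
  let T : TopCat.{u} := TopCat.of (Disc S)
  let g : T ⟶ S := TopCat.ofHom ⟨fun s => s, continuous_of_discreteTopology⟩
  let σ : T ⟶ X := TopCat.ofHom ⟨fun s => (hsurj s).choose, continuous_of_discreteTopology⟩
  have hσ : σ ≫ f = 𝟙 T ≫ g := by
    refine ConcreteCategory.hom_ext _ _ fun s => ?_
    show f (hsurj s).choose = s
    exact (hsurj s).choose_spec
  exact isCohDescentTop_of_bc (bcAug f g) (isBC_bcAug f g hf hs) (fun s => ⟨(show Disc S from s), rfl⟩)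
    (FibSiteLib.CechSection.isCohDescentMap_of_section (pullback.snd f g) (pullback.lift σ (𝟙 T) hσ)
      (pullback.lift_snd _ _ _))

end Groth.Agent.DescTop
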