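import Groth.Agent.FibBi.DerivedFibrewise
import Groth.Agent.S0996

/-!
# Full faithfulness on bounded below derived categories checked after an exact conservative base change
-/

set_option autoImplicit false
set_option linter.style.haveILetI false

universe w w' wf wf' v v' vf vf' u u' uf uf'

open CategoryTheory CategoryTheory.Limits

noncomputable section

namespace Groth.Agent.DescTop.DerivedBaseChange

local notation "q" => HomotopyCategory.quotient _ (ComplexShape.up ℤ)

open FibBi FibBi.DerivedFibrewise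

/-- A left exact functor sends quasi-isomorphisms of bounded below complexes of acyclic objects to
quasi-isomorphisms. -/
theorem isIso_Qh_map {A : Type u} [Category.{v} A] [Abelian A] [HasDerivedCategory.{w} A] [EnoughInjectives A]
    {B : Type u'} [Category.{v'} B] [Abelian B] [HasDerivedCategory.{w'} B] (F : A ⥤ B) [F.Additive]
    [PreservesFiniteLimits F] (K L : CochainComplex.Plus A) (k : K ⟶ L)
    (hK : ∀ (m : ℤ) (i : ℕ), 0 < i → IsZero ((F.rightDerived i).obj (K.obj.X m)))
    (hL : ∀ (m : ℤ) (i : ℕ), 0 < i → IsZero ((F.rightDerived i).obj (L.obj.X m)))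
    (hk : IsIso (DerivedCategory.Plus.Qh.map ((HomotopyCategory.Plus.quotient A).map k))) :
    IsIso (DerivedCategory.Plus.Qh.map
      (F.mapHomotopyCategoryPlus.map ((HomotopyCategory.Plus.quotient A).map k))) := by
  haveI := S0996.result F K hK
  haveI := S0996.result F L hL
  have h := F.rightDerivedFunctorPlusUnit.naturality ((HomotopyCategory.Plus.quotient A).map k)
  haveI : IsIso ((DerivedCategory.Plus.Qh ⋙ F.rightDerivedFunctorPlus).map
      ((HomotopyCategory.Plus.quotient A).map k)) := by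
    dsimp only [Functor.comp_map]
    infer_instance
  haveI : IsIso ((F.mapHomotopyCategoryPlus ⋙ DerivedCategory.Plus.Qh).map ((HomotopyCategory.Plus.quotient A).map k) ≫
      F.rightDerivedFunctorPlusUnit.app ((HomotopyCategory.Plus.quotient A).obj L)) := by
    refine (congrArg IsIso h).mpr ?_
    exact IsIso.comp_isIso' inferInstance (by assumption)
  exact @IsIso.of_isIso_comp_right _ _ _ _ _ _ (F.rightDerivedFunctorPlusUnit.app ((HomotopyCategory.Plus.quotient A).obj L)) inferInstance this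

variable {A : Type u} [Category.{v} A] [Abelian A] [HasDerivedCategory.{w} A]
  {B : Type u'} [Category.{v'} B] [Abelian B] [HasDerivedCategory.{w'} B]
  {A₁ : Type uf} [Category.{vf} A₁] [Abelian A₁] [HasDerivedCategory.{wf} A₁]
  {B₁ : Type uf'} [Category.{vf'} B₁] [Abelian B₁] [HasDerivedCategory.{wf'} B₁]
  {θ : A ⥤ B} [θ.Additive] [PreservesFiniteLimits θ] [PreservesFiniteColimits θ] [EnoughInjectives B]
  [EnoughInjectives B₁]
  {G : B ⥤ A} [G.Additive] (adj : θ ⊣ G)
  {θ₁ : A₁ ⥤ B₁} [θ₁.Additive] [PreservesFiniteLimits θ₁] [PreservesFiniteColimits θ₁]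
  {G₁ : B₁ ⥤ A₁} [G₁.Additive] [PreservesFiniteLimits G₁] (adj₁ : θ₁ ⊣ G₁)
  {r : A ⥤ A₁} [r.Additive] [PreservesFiniteLimits r] [PreservesFiniteColimits r]
  {r' : B ⥤ B₁} [r'.Additive] [PreservesFiniteLimits r'] [PreservesFiniteColimits r']
  (c : r ⋙ θ₁ ≅ θ ⋙ r') (d : G ⋙ r ≅ r' ⋙ G₁)

include adj adj₁ in
/-- Full faithfulness descends along an exact conservative base change with acyclic images of injectives. -/
theorem bijective
    (rel : ∀ X, adj₁.unit.app (r.obj X) ≫ G₁.map (c.hom.app X) = r.map (adj.unit.app X) ≫ d.hom.app (θ.obj X))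
    (hcons : ∀ {X Y : A} (f : X ⟶ Y), IsIso (r.map f) → IsIso f)
    (hacy : ∀ (I : B), Injective I → ∀ n : ℕ, IsZero ((G₁.rightDerived (n + 1)).obj (r'.obj I)))
    (h : ∀ (K L : DerivedCategory.Plus A₁),
      Function.Bijective (θ₁.mapDerivedCategory.map : (K.obj ⟶ L.obj) → _))
    (K L : DerivedCategory.Plus A) :
    Function.Bijective (θ.mapDerivedCategory.map : (K.obj ⟶ L.obj) → _) := by
  obtain ⟨K₀, -, -, ⟨eK⟩⟩ := exists_complex K
  obtain ⟨X₀, dX, hX, ⟨eX⟩⟩ := exists_complex L
  haveI : θ.PreservesMonomorphisms := inferInstance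
  haveI : G.PreservesInjectiveObjects := Functor.preservesInjectiveObjects_of_adjunction_of_preservesMonomorphisms adj
  let θX : DerivedCategory.Plus B :=
    DerivedCategory.Plus.Qh.obj ⟨(q).obj ((θ.mapHomologicalComplex _).obj X₀), by
      rw [HomotopyCategory.plus_quotient_obj_iff]
      exact ⟨dX, isStrictlyGE_map θ X₀ dX⟩⟩
  obtain ⟨I, hI, hinj, ⟨eI⟩⟩ := H9Misc.PlusRB.exists_rep θX
  obtain ⟨dI, hdI⟩ : ∃ d : ℤ, CochainComplex.IsStrictlyGE I.obj.as d :=
    (HomotopyCategory.plus_quotient_obj_iff I.obj.as).1 I.property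
  let J₀ : CochainComplex B ℤ := I.obj.as
  haveI : CochainComplex.IsKInjective J₀ := hI
  haveI : ∀ n, Injective (J₀.X n) := hinj
  let GJ₀ := (G.mapHomologicalComplex (ComplexShape.up ℤ)).obj J₀
  haveI := isStrictlyGE_map G J₀ dI
  haveI : ∀ n, Injective (GJ₀.X n) := fun n => G.injective_obj_of_injective (inferInstance : Injective (J₀.X n))
  haveI : CochainComplex.IsKInjective GJ₀ := CochainComplex.isKInjective_of_injective GJ₀ dI
  haveI : CochainComplex.IsKInjective ((q).obj J₀).as := hI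
  haveI : CochainComplex.IsKInjective ((G.mapHomotopyCategory (ComplexShape.up ℤ)).obj ((q).obj J₀)).as :=
    ‹CochainComplex.IsKInjective GJ₀›
  obtain ⟨jq, hjq⟩ := (CochainComplex.IsKInjective.Qh_map_bijective
    ((θ.mapHomotopyCategory (ComplexShape.up ℤ)).obj ((q).obj X₀)) J₀).2
    ((DerivedCategory.Plus.ι.mapIso eI).inv : DerivedCategory.Qh.obj ((q).obj ((θ.mapHomologicalComplex _).obj X₀)) ⟶
      DerivedCategory.Qh.obj ((q).obj J₀))
  obtain ⟨j₀, rfl⟩ := (HomotopyCategory.quotient B (ComplexShape.up ℤ)).map_surjective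
    (X := (θ.mapHomologicalComplex (ComplexShape.up ℤ)).obj X₀) (Y := J₀) jq
  haveI : IsIso (DerivedCategory.Qh.map (X := (θ.mapHomotopyCategory (ComplexShape.up ℤ)).obj ((q).obj X₀))
      (Y := (q).obj J₀) ((q).map j₀)) := by
    exact (congrArg IsIso hjq).mpr inferInstance
  let η := DerivedUnit.transpose adj (X := (q).obj X₀) (J := (q).obj J₀) ((q).map j₀)
  suffices IsIso (DerivedCategory.Qh.map η) from
    bijective_conj eK eX (DerivedUnit.bijective_of_isIso adj (X := (q).obj X₀) (J := (q).obj J₀) ((q).map j₀) ((q).obj K₀))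
  have key : IsIso (DerivedCategory.Qh.map ((r.mapHomotopyCategory (ComplexShape.up ℤ)).map η)) := by
    let rX := (r.mapHomologicalComplex (ComplexShape.up ℤ)).obj X₀
    let J₁ := (r'.mapHomologicalComplex (ComplexShape.up ℤ)).obj J₀
    haveI := isStrictlyGE_map r' J₀ dI
    haveI := isStrictlyGE_map r X₀ dX
    let PJ : DerivedCategory.Plus B₁ := DerivedCategory.Plus.Qh.obj ⟨(q).obj J₁, by
      rw [HomotopyCategory.plus_quotient_obj_iff]; exact ⟨dI, inferInstance⟩⟩
    obtain ⟨I₁, hI₁, hinj₁, ⟨eI₁⟩⟩ := H9Misc.PlusRB.exists_rep PJ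
    obtain ⟨dI₁, hdI₁⟩ : ∃ d : ℤ, CochainComplex.IsStrictlyGE I₁.obj.as d :=
      (HomotopyCategory.plus_quotient_obj_iff I₁.obj.as).1 I₁.property
    let K₁ : CochainComplex B₁ ℤ := I₁.obj.as
    haveI : CochainComplex.IsKInjective K₁ := hI₁
    haveI : ∀ n, Injective (K₁.X n) := hinj₁
    haveI : θ₁.PreservesMonomorphisms := inferInstance
    haveI : G₁.PreservesInjectiveObjects :=
      Functor.preservesInjectiveObjects_of_adjunction_of_preservesMonomorphisms adj₁
    let GK₁ := (G₁.mapHomologicalComplex (ComplexShape.up ℤ)).obj K₁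
    let GJ₁ := (G₁.mapHomologicalComplex (ComplexShape.up ℤ)).obj J₁
    haveI := isStrictlyGE_map G₁ J₁ dI
    haveI := isStrictlyGE_map G₁ K₁ dI₁
    haveI : ∀ n, Injective (GK₁.X n) := fun n =>
      G₁.injective_obj_of_injective (inferInstance : Injective (K₁.X n))
    haveI : CochainComplex.IsKInjective GK₁ := CochainComplex.isKInjective_of_injective GK₁ dI₁
    haveI : CochainComplex.IsKInjective ((q).obj K₁).as := hI₁
    haveI : CochainComplex.IsKInjective ((G₁.mapHomotopyCategory (ComplexShape.up ℤ)).obj ((q).obj K₁)).as :=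
      ‹CochainComplex.IsKInjective GK₁›
    obtain ⟨kq, hkq⟩ := (CochainComplex.IsKInjective.Qh_map_bijective ((q).obj J₁) K₁).2
      ((DerivedCategory.Plus.ι.mapIso eI₁).inv : DerivedCategory.Qh.obj ((q).obj J₁) ⟶ DerivedCategory.Qh.obj ((q).obj K₁))
    obtain ⟨k₀, rfl⟩ := (HomotopyCategory.quotient B₁ (ComplexShape.up ℤ)).map_surjective (X := J₁) (Y := K₁) kq
    haveI : IsIso (DerivedCategory.Qh.map ((q).map k₀)) := (congrArg IsIso hkq).mpr inferInstance
    haveI hGk : IsIso (DerivedCategory.Qh.map ((q).map ((G₁.mapHomologicalComplex (ComplexShape.up ℤ)).map k₀))) := by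
      let PK : CochainComplex.Plus B₁ := ⟨K₁, ⟨dI₁, hdI₁⟩⟩
      let PJ₁ : CochainComplex.Plus B₁ := ⟨J₁, ⟨dI, inferInstance⟩⟩
      haveI := isIso_Qh_map G₁ PJ₁ PK (ObjectProperty.homMk k₀)
        (fun m i hi => by
          obtain ⟨n, rfl⟩ : ∃ n, i = n + 1 := ⟨i - 1, by omega⟩
          exact hacy (J₀.X m) inferInstance n)
        (fun m i hi => by
          obtain ⟨n, rfl⟩ : ∃ n, i = n + 1 := ⟨i - 1, by omega⟩
          exact G₁.isZero_rightDerived_obj_injective_succ n (K₁.X m))
        (by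
          rw [← isIso_iff_of_reflects_iso _ DerivedCategory.Plus.ι]
          exact ‹IsIso (DerivedCategory.Qh.map ((q).map k₀))›)
      exact (isIso_iff_of_reflects_iso _ DerivedCategory.Plus.ι).2 this
    let cC : (θ₁.mapHomologicalComplex (ComplexShape.up ℤ)).obj rX ⟶
        (r'.mapHomologicalComplex (ComplexShape.up ℤ)).obj ((θ.mapHomologicalComplex _).obj X₀) :=
      { f := fun n => c.hom.app (X₀.X n), comm' := fun m n _ => (c.hom.naturality (X₀.d m n)).symm }
    haveI : ∀ n, IsIso (cC.f n) := fun n => inferInstanceAs (IsIso (c.hom.app (X₀.X n)))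
    haveI : IsIso cC := HomologicalComplex.Hom.isIso_of_components _
    let dC : (r.mapHomologicalComplex (ComplexShape.up ℤ)).obj GJ₀ ⟶ GJ₁ :=
      { f := fun n => d.hom.app (J₀.X n), comm' := fun m n _ => (d.hom.naturality (J₀.d m n)).symm }
    haveI : ∀ n, IsIso (dC.f n) := fun n => inferInstanceAs (IsIso (d.hom.app (J₀.X n)))
    haveI : IsIso dC := HomologicalComplex.Hom.isIso_of_components _
    haveI : IsIso (DerivedCategory.Qh.map ((q).map dC)) := DerivedCategory.Qh.map_isIso ((q).map dC)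
    let jh : (θ.mapHomotopyCategory (ComplexShape.up ℤ)).obj ((q).obj X₀) ⟶ (q).obj J₀ := (q).map j₀
    haveI : IsIso (DerivedCategory.Qh.map jh) := ‹_›
    haveI hrj : IsIso (DerivedCategory.Qh.map ((r'.mapHomotopyCategory (ComplexShape.up ℤ)).map
        (X := (q).obj ((θ.mapHomologicalComplex _).obj X₀)) (Y := (q).obj J₀) ((q).map j₀))) :=
      (NatIso.isIso_map_iff r'.mapDerivedCategoryFactorsh jh).1
        (inferInstanceAs (IsIso (r'.mapDerivedCategory.map (DerivedCategory.Qh.map jh))))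
    let j₁ : (θ₁.mapHomotopyCategory (ComplexShape.up ℤ)).obj ((q).obj rX) ⟶ (q).obj K₁ :=
      (q).map (cC ≫ (r'.mapHomologicalComplex _).map j₀ ≫ k₀)
    haveI : IsIso (DerivedCategory.Qh.map j₁) := by
      show IsIso (DerivedCategory.Qh.map ((q).map (cC ≫ (r'.mapHomologicalComplex _).map j₀ ≫ k₀)))
      rw [Functor.map_comp, Functor.map_comp, Functor.map_comp, Functor.map_comp]
      exact IsIso.comp_isIso' inferInstance (IsIso.comp_isIso' hrj ‹_›)
    let PX : DerivedCategory.Plus A₁ := DerivedCategory.Plus.Qh.obj ⟨(q).obj rX, by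
      rw [HomotopyCategory.plus_quotient_obj_iff]; exact ⟨dX, inferInstance⟩⟩
    let PG : DerivedCategory.Plus A₁ := DerivedCategory.Plus.Qh.obj ⟨(q).obj GK₁, by
      rw [HomotopyCategory.plus_quotient_obj_iff]; exact ⟨dI₁, inferInstance⟩⟩
    haveI h₁ : IsIso (DerivedCategory.Qh.map (DerivedUnit.transpose adj₁ (X := (q).obj rX) (J := (q).obj K₁) j₁)) :=
      DerivedUnit.isIso_of_bijective adj₁ (X := (q).obj rX) (J := (q).obj K₁) j₁ (h PX PX) (h PG PX)
    let Gk := (G₁.mapHomologicalComplex (ComplexShape.up ℤ)).map k₀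
    have heq : (r.mapHomotopyCategory (ComplexShape.up ℤ)).map η ≫ (q).map (dC ≫ Gk) =
        DerivedUnit.transpose adj₁ (X := (q).obj rX) (J := (q).obj K₁) j₁ := by
      dsimp only [η, DerivedUnit.transpose]
      rw [Adjunction.homEquiv_unit, Adjunction.homEquiv_unit]
      let uA : X₀ ⟶ (G.mapHomologicalComplex (ComplexShape.up ℤ)).obj ((θ.mapHomologicalComplex _).obj X₀) :=
        { f := fun n => adj.unit.app (X₀.X n), comm' := fun m n _ => (adj.unit.naturality (X₀.d m n)).symm }
      let uA₁ : rX ⟶ (G₁.mapHomologicalComplex (ComplexShape.up ℤ)).obj ((θ₁.mapHomologicalComplex _).obj rX) :=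
        { f := fun n => adj₁.unit.app (rX.X n), comm' := fun m n _ => (adj₁.unit.naturality (rX.d m n)).symm }
      show (q).map ((r.mapHomologicalComplex _).map (uA ≫ (G.mapHomologicalComplex _).map j₀)) ≫ (q).map (dC ≫ Gk) =
        (q).map uA₁ ≫ (q).map ((G₁.mapHomologicalComplex _).map (cC ≫ (r'.mapHomologicalComplex _).map j₀ ≫ k₀))
      rw [← Functor.map_comp, ← Functor.map_comp]
      refine congrArg _ (HomologicalComplex.hom_ext _ _ fun n => ?_)
      show r.map (adj.unit.app (X₀.X n) ≫ G.map (j₀.f n)) ≫ d.hom.app (J₀.X n) ≫ G₁.map (k₀.f n) =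
        adj₁.unit.app (r.obj (X₀.X n)) ≫ G₁.map (c.hom.app (X₀.X n) ≫ r'.map (j₀.f n) ≫ k₀.f n)
      rw [Functor.map_comp, Functor.map_comp, Functor.map_comp,
        ← Category.assoc _ _ (G₁.map (r'.map _) ≫ _), rel (X₀.X n)]
      rw [Category.assoc, Category.assoc]
      refine congrArg (fun z => _ ≫ z) ?_
      rw [← Category.assoc, ← Category.assoc]
      exact congrArg (fun z => z ≫ _) (d.hom.naturality (j₀.f n))
    have : IsIso (DerivedCategory.Qh.map ((r.mapHomotopyCategory (ComplexShape.up ℤ)).map η) ≫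
        DerivedCategory.Qh.map ((q).map (dC ≫ Gk))) := by
      refine (congrArg IsIso ((DerivedCategory.Qh.map_comp _ _).symm.trans (congrArg _ heq))).mpr h₁
    have hdG : IsIso (DerivedCategory.Qh.map ((q).map (dC ≫ Gk))) := by
      rw [Functor.map_comp, Functor.map_comp]
      exact IsIso.comp_isIso' inferInstance hGk
    exact @IsIso.of_isIso_comp_right _ _ _ _ _ _ _ hdG this
  refine (DerivedCategory.isIso_iff A _).2 fun n => hcons _ ?_
  haveI := key
  haveI : IsIso (r.mapDerivedCategory.map (DerivedCategory.Qh.map η)) :=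
    (NatIso.isIso_map_iff r.mapDerivedCategoryFactorsh η).2 ‹_›
  exact (NatIso.isIso_map_iff (KFlatLib.mapDCHomologyIso r n) _).1
    (inferInstanceAs (IsIso ((DerivedCategory.homologyFunctor A₁ n).map
      (r.mapDerivedCategory.map (DerivedCategory.Qh.map η)))))

end Groth.Agent.DescTop.DerivedBaseChange
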