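import Groth.Agent.DescTop.AugBC
import Groth.Agent.DescTop.DerivedBaseChange
import Mathlib.CategoryTheory.Abelian.GrothendieckAxioms.Sheaf
import Mathlib.CategoryTheory.Abelian.GrothendieckCategory.EnoughInjectives

/-!
# Descent along augmented simplicial spaces with proper levels
-/

set_option autoImplicit false
set_option backward.isDefEq.respectTransparency false
set_option backward.isDefEq.respectTransparency.types false
set_option linter.style.haveILetI false

universe u

open CategoryTheory CategoryTheory.Limits Opposite TopologicalSpace Simplicial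
open Groth.Agent.FibSiteLib Groth.Agent.FibBi

noncomputable section

namespace Groth.Agent.DescTop

/-- Inverse images along surjections reflect isomorphisms. -/
lemma isIso_of_pull {T S : TopCat.{u}} (g : T ⟶ S) (hg : Function.Surjective g) {F G : CohTop.Ab S} (φ : F ⟶ G)
    (h : IsIso ((CohTop.pull g).map φ)) : IsIso φ := by
  haveI : ∀ s, IsIso ((TopCat.Presheaf.stalkFunctor AddCommGrpCat.{u} s).map φ.hom) := fun s => by
    obtain ⟨t, rfl⟩ := hg s
    haveI : IsIso ((TopCat.Presheaf.stalkFunctor AddCommGrpCat.{u} t).map ((CohTop.pull g).map φ).hom) :=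
      inferInstanceAs (IsIso ((sheafToPresheaf _ _ ⋙ TopCat.Presheaf.stalkFunctor AddCommGrpCat.{u} t).map
        ((CohTop.pull g).map φ)))
    have e : (TopCat.Presheaf.stalkFunctor AddCommGrpCat.{u} (g t)).map φ.hom ≫
          SoftTop.stalkMap g (SoftTop.pullData g G).η t =
        SoftTop.stalkMap g (SoftTop.pullData g F).η t ≫
          (TopCat.Presheaf.stalkFunctor AddCommGrpCat.{u} t).map ((CohTop.pull g).map φ).hom := by
      refine TopCat.Presheaf.stalk_hom_ext _ fun U hU => ?_
      refine ConcreteCategory.hom_ext _ _ fun x => ?_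
      simp only [ConcreteCategory.comp_apply]
      erw [TopCat.Presheaf.stalkFunctor_map_germ_apply, SoftTop.germ_stalkMap, SoftTop.germ_stalkMap,
        TopCat.Presheaf.stalkFunctor_map_germ_apply]
      exact congrArg _ (ConcreteCategory.congr_hom (NatTrans.congr_app (congrArg (fun q => q.hom)
        ((TopCat.Sheaf.pullbackPushforwardAdjunction AddCommGrpCat.{u} g).unit.naturality φ)) (op U)) x)
    haveI := (ConcreteCategory.isIso_iff_bijective _).2 ((SoftTop.pullData g G).bij t)
    haveI := (ConcreteCategory.isIso_iff_bijective _).2 ((SoftTop.pullData g F).bij t)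
    haveI : IsIso ((TopCat.Presheaf.stalkFunctor AddCommGrpCat.{u} (g t)).map φ.hom ≫
        SoftTop.stalkMap g (SoftTop.pullData g G).η t) := by
      rw [e]
      infer_instance
    exact IsIso.of_isIso_comp_right _ (SoftTop.stalkMap g (SoftTop.pullData g G).η t)
  exact TopCat.Presheaf.isIso_of_stalkFunctor_map_iso φ

variable {W W' : (WithInitial SimplexCategory)ᵒᵖ ⥤ TopCat.{u}} (α : W' ⟶ W)

attribute [local instance] HasDerivedCategory.standard

/-- Cohomological descent descends along a surjective base change with proper levels. -/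
theorem isCohDescentTop_of_bc (h : IsBC α) (hsurj : Function.Surjective (bot α))
    (hW' : FibDesc.IsCohDescentTop W') : FibDesc.IsCohDescentTop W := by
  refine ⟨inferInstance, inferInstance, inferInstance, inferInstance, fun _ => inferInstance, TopLocal.lex_θ W,
    fun K L => ?_⟩
  obtain ⟨_, _, _, _, _, _, hW'⟩ := hW'
  haveI : PreservesFiniteColimits (θ W) := SplitDescent.rex_of_adj (θadj W)
  haveI : PreservesFiniteColimits (θ W') := SplitDescent.rex_of_adj (θadj W')
  haveI := TopLocal.lex_θ W
  haveI := TopLocal.lex_θ W'
  haveI : (θ W).Additive := (θadj W).left_adjoint_additive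
  haveI : (θ W').Additive := (θadj W').left_adjoint_additive
  haveI : PreservesFiniteColimits (pbα α) := SplitDescent.rex_of_adj
    ((FibSiteLib.TopFam.K (αN α)).sheafAdjunctionContinuous AddCommGrpCat.{u} (DescSS.FamLevel.J (N W)) (DescSS.FamLevel.J (N W')))
  haveI : PreservesFiniteLimits (pbα α) := SplitDescent.lex_pullback (DescSS.FamLevel.J (N W))
    (DescSS.FamLevel.J (N W')) (FibSiteLib.TopFam.K (αN α))
  haveI : (pbα α).Additive := Functor.additive_of_preserves_binary_products _
  haveI : ∀ M, IsIso ((bc α).app M) := isIso_bc h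
  haveI : IsIso (bc α) := NatIso.isIso_of_isIso_app _
  haveI : ∀ X, IsIso ((cc (α := α)).app X) := isIso_cc h
  haveI : IsIso (cc (α := α)) := NatIso.isIso_of_isIso_app _
  exact DerivedBaseChange.bijective (θadj W) (θadj W') (r := CohTop.pull (bot α)) (r' := pbα α)
    (asIso (cc (α := α))) (asIso (bc α)) (fun X => rel X) (fun f hf => isIso_of_pull (bot α) hsurj f hf)
    (fun I hI n => by
      haveI := hI
      exact isZero_rightDerived_of_good W' n _ (good_pb h I))
    hW' K L

end Groth.Agent.DescTop
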